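import Cfsg.Agent.H88.Push.SymCore

/-!
Symmetric components give a family of blocks.
-/

set_option autoImplicit false
set_option linter.style.haveILetI false
set_option linter.unusedSectionVars false
set_option maxHeartbeats 800000

open scoped commutatorElement Pointwise

namespace Cfsg.Agent.H88.Push

open Subgroup Cfsg.Agent.H34.Push

universe u

variable {G : Type u} [Group G] [Finite G] [Fact (Nat.Prime 2)]
variable {r n : ℕ} {E : Fin r → Subgroup G} {T : Sylow 2 G} {M : Subgroup G}
variable (hc : Ctx T M) (h : SymCase T E n) (co : Core T E) (si : SymImages T E n)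
  (hQ : cee 2 G = Cfsg.pCore 2 G)
  (hP : ⁅pee 2 (T : Subgroup G), Cfsg.pResidual 2 G⁆ ≤ wee 2 (T : Subgroup G))

include hc h co si hQ hP

theorem blk_core (i : Fin r) :
    Cfsg.pCoreOf 2 (blk (T : Subgroup G) (E i)) = ⁅vee 2 G, E i⁆ := by
  set D := blk (T : Subgroup G) (E i) with hD
  set L := ell 2 (T : Subgroup G) with hL
  haveI := ell_normal (T : Subgroup G)
  have hconj : ∀ (K : Subgroup G) (g : G), g ∈ normalizer (K : Set G) →
      g ∈ normalizer (Cfsg.pCoreOf 2 K : Set G) := fun K g hg => by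
    rw [mem_normalizer_iff_map_conj_eq] at hg ⊢
    exact (H72.pCoreOf_map_equiv (MulAut.conj g) 2 K).symm.trans (congrArg _ hg)
  refine le_antisymm ?_ ?_
  · rw [← blk_inf_core hc h co si hQ hP i]
    refine le_inf (H72.pCoreOf_le 2 D) ?_
    have h1 : Cfsg.pCoreOf 2 D ≤ Cfsg.pCoreOf 2 L :=
      H72.le_pCoreOf ((H72.pCoreOf_le 2 D).trans ((blk_le _ _).trans inf_le_left))
        (fun g hg => hconj D g (blk_normalizer h.toComps co.L_le i hg)) (H72.pCoreOf_isPGroup 2 D)
    have h2 : (Cfsg.pCoreOf 2 L).Normal :=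
      normalizer_eq_top_iff.1 (eq_top_iff.2 fun g _ => hconj L g (le_normalizer_of_normal (mem_top g)))
    exact h1.trans (H72.le_pCore h2 (H72.pCoreOf_isPGroup 2 L))
  · exact H72.le_pCoreOf (mod_le_blk h co si hQ i)
      (((blk_le _ _).trans inf_le_right).trans (normalizer_commutator_ge_right _ _))
      ((H72.pCore_isPGroup 2).to_le (mod_le_vee.trans vee_le_core))

theorem blk_omega (i : Fin r) :
    Cfsg.omegaOneCenter 2 (Cfsg.pCoreOf 2 (blk (T : Subgroup G) (E i))) = ⁅vee 2 G, E i⁆ := by
  rw [blk_core hc h co si hQ hP i]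
  refine le_antisymm ((H34.Star.omega_le _).trans inf_le_left) fun v hv => ?_
  refine H34.mem_omegaOne (mem_inf.2 ⟨hv, mem_centralizer_iff.2 fun x hx =>
    vee_comm (mod_le_vee hx) (mod_le_vee hv)⟩) ?_
  exact (vee_elementary (G := G) (p := 2)).2 v (mod_le_vee hv)

theorem blk_comm_baumann (i : Fin r) :
    ⁅blk (T : Subgroup G) (E i), Cfsg.baumannSubgroupOf 2 (T : Subgroup G)⁆ =
      blk (T : Subgroup G) (E i) := by
  classical
  set D := blk (T : Subgroup G) (E i) with hD
  set B := Cfsg.baumannSubgroupOf 2 (T : Subgroup G) with hB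
  set N := ⁅D, B⁆ with hN
  set U := ⁅vee 2 G, E i⁆ with hU
  have hBD : B ≤ normalizer (D : Set G) :=
    (baumann_le_ell _).trans (blk_normalizer h.toComps co.L_le i)
  have hND : N ≤ D := by
    rw [hN, commutator_le]
    intro d hd b hb
    rw [commutatorElement_def, mul_assoc d b, mul_assoc d]
    exact mul_mem hd ((mem_normalizer_iff.1 (hBD hb) _).1 (inv_mem hd))
  obtain ⟨ρ, ψ, rep⟩ := h.rep i
  obtain ⟨σ, f, lv⟩ := si.leaves i ρ ψ rep
  obtain ⟨a₀, ha₀⟩ : ∃ a, a ≠ f := by
    by_contra hcon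
    push Not at hcon
    have h1 := Fintype.card_le_one_iff.2 fun a b => (hcon a).trans (hcon b).symm
    have := three_le h.pos_n
    simp at h1
  obtain ⟨y, hyB, hy2, hρy⟩ := lv.lift a₀ ha₀
  have hσa₀ : a₀ ≠ σ a₀ := Ne.symm fun e => ha₀ ((lv.fixed a₀).1 e)
  have hDE : D ≤ E i := (blk_le _ _).trans inf_le_right
  set S := (N.subgroupOf (E i)).map ρ with hS
  have hS1 : ∀ g ∈ alternatingGroup (Fin (2 ^ n + 1)),
      g * Equiv.swap a₀ (σ a₀) * g⁻¹ * Equiv.swap a₀ (σ a₀) ∈ S := by
    intro g hg
    obtain ⟨d, hd, rfl⟩ := (blk_image h.toComps co hQ rep).ge hg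
    refine ⟨⁅d, y⁆, commutator_mem_commutator (show (d : G) ∈ D from hd) hyB, ?_⟩
    rw [map_commutatorElement, hρy, commutatorElement_def, Equiv.swap_inv]
  have hswap : ∀ a b : Fin (2 ^ n + 1), a ≠ b →
      Equiv.swap a b * Equiv.swap a₀ (σ a₀) ∈ S := by
    intro a b hab
    obtain ⟨g, hg⟩ := isConj_iff.1 (Equiv.Perm.isConj_swap hσa₀ hab)
    rcases Int.units_eq_one_or (Equiv.Perm.sign g) with he | he
    · rw [← hg]; exact hS1 g (Equiv.Perm.mem_alternatingGroup.2 he)
    · have h1 := hS1 (g * Equiv.swap a₀ (σ a₀)) (Equiv.Perm.mem_alternatingGroup.2 (by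
        rw [map_mul, he, Equiv.Perm.sign_swap hσa₀]; rfl))
      rw [← hg]
      convert h1 using 2
      group
  have hA : alternatingGroup (Fin (2 ^ n + 1)) ≤ S := by
    rw [← Equiv.Perm.closure_three_cycles_eq_alternating, closure_le]
    intro c hc3
    -- write the three cycle as a product of two swaps
    obtain ⟨x, hx⟩ : ∃ x, c x ≠ x := by
      by_contra hcon
      push Not at hcon
      have h3 := Equiv.Perm.IsThreeCycle.card_support hc3
      rw [Equiv.Perm.support_eq_empty_iff.2 (Equiv.ext hcon)] at h3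
      simp at h3
    have hsw : Equiv.Perm.sign (Equiv.swap x (c x) * c) = -1 := by
      rw [map_mul, Equiv.Perm.IsThreeCycle.sign hc3, Equiv.Perm.sign_swap (Ne.symm hx)]; rfl
    have hsw2 : (Equiv.swap x (c x) * c).IsSwap := by
      have hsub : (Equiv.swap x (c x) * c).support ⊆ c.support.erase x := by
        intro z hz
        rw [Finset.mem_erase]
        rw [Equiv.Perm.mem_support] at hz
        refine ⟨fun e => hz ?_, ?_⟩
        · rw [e, Equiv.Perm.mul_apply, Equiv.swap_apply_right]
        · rw [Equiv.Perm.mem_support]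
          intro e
          apply hz
          rw [Equiv.Perm.mul_apply, e]
          by_cases hzx : z = x
          · rw [hzx] at e; exact absurd e hx
          by_cases hzc : z = c x
          · rw [hzc] at e; exact absurd (c.injective e) hx
          exact Equiv.swap_apply_of_ne_of_ne hzx hzc
      have hcard : (Equiv.swap x (c x) * c).support.card ≤ 2 := by
        refine (Finset.card_le_card hsub).trans ?_
        rw [Finset.card_erase_of_mem (Equiv.Perm.mem_support.2 hx),
          Equiv.Perm.IsThreeCycle.card_support hc3]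
      rcases Nat.lt_or_eq_of_le hcard with hlt | heq
      · exfalso
        have h1 : Equiv.swap x (c x) * c = 1 := Equiv.Perm.card_support_le_one.1 (by omega)
        rw [h1, map_one] at hsw
        exact absurd hsw (by decide)
      · exact Equiv.Perm.card_support_eq_two.1 heq
    obtain ⟨a, b, hab, habe⟩ := hsw2
    have h1 := hswap x (c x) (Ne.symm hx)
    have h2 := hswap a b hab
    have h3 : Equiv.swap x (c x) * Equiv.swap a b ∈ S := by
      have h4 := mul_mem h1 (inv_mem h2)
      rwa [mul_inv_rev, Equiv.swap_inv, Equiv.swap_inv, mul_assoc,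
        ← mul_assoc (Equiv.swap a₀ (σ a₀)), Equiv.swap_mul_self, one_mul] at h4
    rwa [← habe, Equiv.swap_mul_self_mul] at h3
  have hle : D ≤ N ⊔ U := by
    intro d hd
    obtain ⟨e, he, hed⟩ := hA ((blk_image h.toComps co hQ rep).le ⟨⟨d, hDE hd⟩, hd, rfl⟩)
    have hker := (rep.ker (e⁻¹ * ⟨d, hDE hd⟩)).1 (by rw [map_mul, map_inv, hed, inv_mul_cancel])
    have heN : (e : G) ∈ N := he
    have h1 : (e : G)⁻¹ * d ∈ U := by
      rw [hU, ← blk_inf_core hc h co si hQ hP i]
      exact mem_inf.2 ⟨mul_mem (inv_mem (hND heN)) hd, hQ.le hker⟩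
    have := mul_mem (mem_sup_left (T := U) heN) (mem_sup_right (S := N) h1)
    simpa using this
  refine le_antisymm hND (hle.trans (sup_le le_rfl ?_))
  show ⁅vee 2 G, E i⁆ ≤ N
  rw [← mod_comm_self h co si hQ i, commutator_le]
  intro u hu d hd
  have hNn : D ≤ normalizer (N : Set G) := normalizer_commutator_ge_left D B
  have hUN : U ≤ normalizer (N : Set G) := (mod_le_blk h co si hQ i).trans hNn
  have hd' : d ∈ ((N : Set G) * (U : Set G)) := by
    rw [← coe_mul_of_right_le_normalizer_left _ _ hUN]; exact hle hd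
  obtain ⟨nn, hnn, v, hv, rfl⟩ := hd'
  have huv : u * v = v * u := vee_comm (mod_le_vee hu) (mod_le_vee hv)
  rw [show ⁅u, nn * v⁆ = ⁅u, nn⁆ from by
    rw [commutatorElement_def, commutatorElement_def]
    calc u * (nn * v) * u⁻¹ * (nn * v)⁻¹ = u * nn * (v * u⁻¹ * v⁻¹) * nn⁻¹ := by group
      _ = u * nn * ((u⁻¹ * (u * v)) * u⁻¹ * v⁻¹) * nn⁻¹ := by group
      _ = u * nn * u⁻¹ * nn⁻¹ := by rw [huv]; group]
  rw [commutatorElement_def]
  exact mul_mem ((mem_normalizer_iff.1 (hUN hu) nn).1 hnn) (inv_mem hnn)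

/-- The odd parts of the symmetric components are commuting blocks, generating with `T`. -/
theorem sym_family_two :
    ∃ Bk : Fin r → Subgroup G, Family T Bk ∧ ∀ i, Bk i ≤ E i := by
  classical
  refine ⟨fun i => blk (T : Subgroup G) (E i), ?_, fun i => (blk_le _ _).trans inf_le_right⟩
  have hperm : ∀ t ∈ (T : Subgroup G), ∀ i j, (E i).map (MulAut.conj t).toMonoidHom = E j →
      (blk (T : Subgroup G) (E i)).map (MulAut.conj t).toMonoidHom = blk (T : Subgroup G) (E j) := by
    intro t _ i j hij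
    haveI := ell_normal (T : Subgroup G)
    refine (H51.map_pResidualOf (MulAut.conj t) _).trans (congrArg _ ?_)
    exact (Subgroup.map_inf _ _ _ (MulAut.conj t).injective).trans
      (congrArg₂ (· ⊓ ·) (Normal.map_conj_eq _ t) hij)
  refine
    { block := fun i => ?_
      norm := fun i => blk_normalizer h.toComps co.L_le i
      le_L := fun i => (blk_le _ _).trans inf_le_left
      perm := fun t ht i => ?_
      comm := fun i j hij => ?_
      gen := blk_sup_top h co si hQ }
  rotate_left
  · obtain ⟨j, hj⟩ := h.perm t ht i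
    exact ⟨j, hperm t ht i j hj⟩
  · -- distinct blocks commute
    have h1 : ⁅blk (T : Subgroup G) (E i), blk (T : Subgroup G) (E j)⁆ ≤
        ⁅vee 2 G, E i⁆ ⊓ ⁅vee 2 G, E j⁆ := by
      have hin : ∀ a b, a ≠ b → ⁅blk (T : Subgroup G) (E a), blk (T : Subgroup G) (E b)⁆ ≤
          ⁅vee 2 G, E a⁆ := by
        intro a b hab
        rw [← blk_inf_core hc h co si hQ hP a, commutator_le]
        intro x hx z hz
        refine mem_inf.2 ⟨?_, ?_⟩
        · rw [commutatorElement_def, mul_assoc x z, mul_assoc x]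
          exact mul_mem hx ((mem_normalizer_iff.1 (blk_normalizer h.toComps co.L_le a
            (((blk_le _ _).trans inf_le_left) hz)) _).1 (inv_mem hx))
        · exact hQ.le (h.comm a b hab (commutator_mem_commutator (blk_le _ _ hx).2 (blk_le _ _ hz).2))
      exact le_inf (hin i j hij) ((commutator_comm _ _).trans_le (hin j i (Ne.symm hij)))
    exact le_bot_iff.1 (h1.trans (mods_inf h hij).le)
  · -- each odd part is a block
    obtain ⟨k, hk⟩ : ∃ k, n = k + 1 := ⟨n - 1, by have := h.pos_n; omega⟩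
    have hdeg : 2 ^ n + 1 = 2 * 2 ^ k + 1 := by rw [hk, pow_succ]; ring
    set D := blk (T : Subgroup G) (E i) with hD
    have hDE : D ≤ E i := (blk_le _ _).trans inf_le_right
    have hUfix : ⁅vee 2 G, E i⁆ ⊓ centralizer (D : Set G) = ⊥ := by
      obtain ⟨ρ, ψ, rep⟩ := h.rep i
      exact mod_fixed rep (three_le h.pos_n) (odd_deg h.pos_n) (blk_image h.toComps co hQ rep).ge
    refine ⟨?_, blk_comm_baumann hc h co si hQ hP i, ?_, ?_, Or.inr ⟨rfl, 2 ^ k, ?_, ?_, ?_⟩⟩
    · refine le_antisymm ?_ ?_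
      · rw [Cfsg.pResidualOf, H72.pResidual_map_eq, closure_le]
        exact fun x hx => hx.1
      · refine (blk_eq _ _).le.trans ((closure_le _).2 ?_)
        rintro x ⟨hx, hcx⟩
        exact H72.mem_pResidual_map (show x ∈ D by rw [hD, blk_eq]; exact subset_closure ⟨hx, hcx⟩) hcx
    · rw [blk_core hc h co si hQ hP i]; exact mod_comm_self h co si hQ i
    · intro hbot
      have hcent : D ≤ centralizer (Cfsg.omegaOneCenter 2 (T : Subgroup G) : Set G) :=
        commutator_eq_bot_iff_le_centralizer.1 hbot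
      have hΩT : ∀ t ∈ (T : Subgroup G), t ∈ centralizer (Cfsg.omegaOneCenter 2 (T : Subgroup G) : Set G) :=
        fun t ht => Ctx.T_le_cent_omega ht
      have hall : ∀ j, blk (T : Subgroup G) (E j) ≤
          centralizer (Cfsg.omegaOneCenter 2 (T : Subgroup G) : Set G) := by
        intro j
        obtain ⟨t, ht, htE⟩ := h.trans i j
        rw [← hperm t ht i j htE]
        rintro _ ⟨d, hd, rfl⟩
        show t * d * t⁻¹ ∈ _
        exact mul_mem (mul_mem (hΩT t ht) (hcent hd)) (inv_mem (hΩT t ht))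
      refine hc.hz ⟨fun z hz g => ?_⟩
      have hg : g ∈ centralizer (Cfsg.omegaOneCenter 2 (T : Subgroup G) : Set G) := by
        have := (sup_le (iSup_le hall) Ctx.T_le_cent_omega :
          (⨆ j, blk (T : Subgroup G) (E j)) ⊔ (T : Subgroup G) ≤ _)
        rw [blk_sup_top h co si hQ] at this
        exact this (mem_top g)
      rwa [← mem_centralizer_iff.1 hg z hz, mul_inv_cancel_right]
    · -- the quotient
      have hrep := h.rep i
      revert hrep
      rw [hdeg]
      rintro ⟨ρ, ψ, rep⟩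
      have hm : 3 ≤ 2 * 2 ^ k + 1 := hdeg ▸ three_le h.pos_n
      have himg := blk_image h.toComps co hQ rep
      let θ : ↥D →* ↥(alternatingGroup (Fin (2 * 2 ^ k + 1))) :=
        (ρ.comp (Subgroup.inclusion hDE)).codRestrict _ fun d => himg.le ⟨_, d.2, rfl⟩
      have hθ : Function.Surjective θ := by
        rintro ⟨τ, hτ⟩
        obtain ⟨d, hd, hdτ⟩ := himg.ge hτ
        exact ⟨⟨d, hd⟩, Subtype.ext hdτ⟩
      have hθker : θ.ker = Cfsg.pCore 2 ↥D := by
        ext x
        rw [MonoidHom.mem_ker, ← H51.mem_pCoreOf_iff', blk_core hc h co si hQ hP i,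
          ← blk_inf_core hc h co si hQ hP i, mem_inf, Subtype.ext_iff]
        show ρ (Subgroup.inclusion hDE x) = 1 ↔ _
        rw [rep.ker, hQ]
        exact ⟨fun h' => ⟨x.2, h'⟩, fun h' => h'.2⟩
      exact ⟨(QuotientGroup.quotientMulEquivOfEq hθker.symm).trans
        (QuotientGroup.quotientKerEquivOfSurjective θ hθ)⟩
    · rw [blk_omega hc h co si hQ hP i, hUfix]
      have hrep := h.rep i
      revert hrep
      rw [hdeg]
      rintro ⟨ρ, ψ, rep⟩
      have himg := blk_image h.toComps co hQ rep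
      refine ⟨hDE.trans (normalizer_commutator_ge_right _ _), bot_le,
        ρ.comp (Subgroup.inclusion hDE), ψ, ?_, rep.even, rep.onto, fun u => ?_, fun d u => ?_⟩
      · refine le_antisymm ?_ ?_
        · rintro _ ⟨d, rfl⟩
          exact himg.le ⟨_, d.2, rfl⟩
        · intro τ hτ
          obtain ⟨d, hd, hdτ⟩ := himg.ge hτ
          exact ⟨⟨d, hd⟩, hdτ⟩
      · rw [mem_bot]
        constructor
        · intro hu
          rw [← map_one ψ] at hu
          exact congrArg Subtype.val (mod_injective rep (Nat.le_add_left 1 _) hu)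
        · intro hu
          rw [show u = 1 from Subtype.ext hu, map_one]
      · exact mod_act rep (Subgroup.inclusion hDE d) u
    · rw [blk_omega hc h co si hQ hP i, blk_core hc h co si hQ hP i]

end Cfsg.Agent.H88.Push

namespace Cfsg.Agent.H88.Push

open Subgroup Cfsg.Agent.H34.Push

universe u

/-- The family of blocks in the symmetric case. -/
theorem sym_family {G : Type u} [Group G] [Finite G] {p : ℕ} [Fact p.Prime] {T : Sylow p G} {M : Subgroup G}
    (hc : Ctx T M) {r : ℕ} {E : Fin r → Subgroup G} {n : ℕ} (h : SymCase T E n) (si : SymImages T E n)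
    (co : Core T E) (hQ : cee p G = Cfsg.pCore p G)
    (hP : ⁅pee p (T : Subgroup G), Cfsg.pResidual p G⁆ ≤ wee p (T : Subgroup G))
    (_hgen : Cfsg.pResidual p G ≤ ell p (T : Subgroup G)) :
    ∃ Bk : Fin r → Subgroup G, Family T Bk ∧ ∀ i, Bk i ≤ E i := by
  obtain rfl := h.two
  exact sym_family_two hc h co si hQ hP

end Cfsg.Agent.H88.Push
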