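import Cfsg.Agent.H34.Push.Basic
import Cfsg.Agent.H51.NaturalIrreducible
import Cfsg.Agent.H51.SubnormalBlockTools
import Cfsg.Agent.H39.Push.SymSplit
import Cfsg.Agent.H73.VertexV

/-!
A symmetric component: its module inside `V` is faithful, and its odd part induces the alternating group.
-/

set_option autoImplicit false
set_option linter.style.haveILetI false
set_option linter.unusedSectionVars false

open scoped commutatorElement Pointwise

namespace Cfsg.Agent.H88.Push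

open Subgroup Cfsg.Agent.H34.Push

universe u

variable {G : Type u} [Group G] [Finite G] [Fact (Nat.Prime 2)]

theorem vee_comm {v w : G} (hv : v ∈ vee 2 G) (hw : w ∈ vee 2 G) : v * w = w * v := by
  haveI := (vee_elementary (G := G) (p := 2)).1
  exact setLike_mul_comm hv hw

theorem vee_inv {v : G} (hv : v ∈ vee 2 G) : v⁻¹ = v := by
  rw [inv_eq_iff_mul_eq_one, ← pow_two]
  exact (vee_elementary (G := G) (p := 2)).2 v hv

theorem vee_conj {v : G} (hv : v ∈ vee 2 G) (g : G) : g * v * g⁻¹ ∈ vee 2 G :=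
  (vee_normal (G := G) (p := 2)).conj_mem v hv g

theorem vee_comm_mem {v : G} (hv : v ∈ vee 2 G) (g : G) : ⁅v, g⁆ ∈ vee 2 G := by
  rw [commutatorElement_def, mul_assoc v g, mul_assoc v]
  exact mul_mem hv (vee_conj (inv_mem hv) g)

theorem vee_conj_eq {v : G} (hv : v ∈ vee 2 G) (g : G) : g * v * g⁻¹ = v * ⁅v, g⁆ := by
  have h2 : v * v = 1 := by rw [← pow_two]; exact (vee_elementary (G := G) (p := 2)).2 v hv
  have e := vee_inv hv
  calc g * v * g⁻¹ = (v * v) * (g * v * g⁻¹) := by rw [h2, one_mul]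
    _ = v * (v * g * v⁻¹ * g⁻¹) := by rw [e]; group
    _ = _ := by rw [commutatorElement_def]

/-- A transposition of `V` has a commutator space of order two. -/
theorem comm_value {t : G} (h : (vee 2 G ⊓ centralizer ({t} : Set G)).relIndex (vee 2 G) = 2) :
    ∃ w ∈ vee 2 G, ∀ v ∈ vee 2 G, ⁅v, t⁆ = 1 ∨ ⁅v, t⁆ = w := by
  let φ : ↥(vee 2 G) →* ↥(vee 2 G) :=
    { toFun := fun v => ⟨⁅(v : G), t⁆, vee_comm_mem v.2 t⟩
      map_one' := Subtype.ext (by simp)
      map_mul' := fun a b => Subtype.ext (by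
        show ⁅(a : G) * b, t⁆ = ⁅(a : G), t⁆ * ⁅(b : G), t⁆
        have e := vee_comm (vee_comm_mem b.2 t) (vee_conj (inv_mem a.2) t)
        calc ⁅(a : G) * b, t⁆ = a * (⁅(b : G), t⁆ * (t * (a : G)⁻¹ * t⁻¹)) := by
              simp only [commutatorElement_def]; group
          _ = a * ((t * (a : G)⁻¹ * t⁻¹) * ⁅(b : G), t⁆) := by rw [e]
          _ = _ := by simp only [commutatorElement_def]; group) }
  have hker : φ.ker = (vee 2 G ⊓ centralizer ({t} : Set G)).subgroupOf (vee 2 G) := by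
    ext v
    rw [MonoidHom.mem_ker, mem_subgroupOf, mem_inf, mem_centralizer_singleton_iff,
      ← Subtype.val_inj]
    show ⁅(v : G), t⁆ = 1 ↔ _
    rw [commutatorElement_eq_one_iff_mul_comm]
    exact ⟨fun e => ⟨v.2, e⟩, fun e => e.2⟩
  have hcard : Nat.card φ.range = 2 := by
    rw [← Subgroup.index_ker, hker]; exact h
  obtain ⟨w, hw, huniq⟩ := (Nat.card_eq_two_iff' (1 : ↥φ.range)).1 hcard
  refine ⟨((w : ↥(vee 2 G)) : G), (w : ↥(vee 2 G)).2, fun v hv => ?_⟩
  by_cases he : (⟨φ ⟨v, hv⟩, ⟨_, rfl⟩⟩ : ↥φ.range) = 1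
  · exact Or.inl (congrArg (fun x : ↥φ.range => ((x : ↥(vee 2 G)) : G)) he)
  · exact Or.inr (congrArg (fun x : ↥φ.range => ((x : ↥(vee 2 G)) : G)) (huniq _ he))

theorem le_normalizer_comm {A X Y : Subgroup G} (hX : A ≤ normalizer (X : Set G))
    (hY : A ≤ normalizer (Y : Set G)) : A ≤ normalizer ((⁅X, Y⁆ : Subgroup G) : Set G) := by
  intro g hg
  rw [mem_normalizer_iff_map_conj_eq]
  exact (Subgroup.map_commutator _ _ _).trans (congrArg₂ (fun A B => ⁅A, B⁆)
    (mem_normalizer_iff_map_conj_eq.1 (hX hg)) (mem_normalizer_iff_map_conj_eq.1 (hY hg)))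

theorem card_sup_le (A B : Subgroup G) (h : B ≤ normalizer (A : Set G)) :
    Nat.card ↥(A ⊔ B) ≤ Nat.card A * Nat.card B := by
  have e : ((A ⊔ B : Subgroup G) : Set G) = (A : Set G) * (B : Set G) :=
    coe_mul_of_right_le_normalizer_left _ _ h
  calc Nat.card ↥(A ⊔ B) = Nat.card ↥((A : Set G) * (B : Set G) : Set G) := by rw [← e]; rfl
    _ ≤ Nat.card A * Nat.card B := Set.natCard_mul_le

variable {m : ℕ} {E : Subgroup G} {ρ : ↥E →* Equiv.Perm (Fin m)}
  {ψ : ↥⁅vee 2 G, E⁆ →* Multiplicative (Fin m → ZMod 2)}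

theorem mod_le_vee : ⁅vee 2 G, E⁆ ≤ vee 2 G :=
  haveI := vee_normal (G := G) (p := 2)
  commutator_le_left _ _

theorem even_card_ge (k : ℕ) :
    2 ^ k ≤ Nat.card {v : Fin (k + 1) → ZMod 2 // ∑ i, v i = 0} := by
  have h : Function.Injective (fun g : Fin k → ZMod 2 =>
      (⟨Fin.cons (∑ i, g i) g, by
        rw [Fin.sum_univ_succ]; simp only [Fin.cons_zero, Fin.cons_succ]
        exact CharTwo.add_self_eq_zero _⟩ : {v : Fin (k + 1) → ZMod 2 // ∑ i, v i = 0})) := by
    intro a b hab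
    funext i
    simpa using congrFun (congrArg Subtype.val hab) i.succ
  refine le_trans (le_of_eq ?_) (Nat.card_le_card_of_injective _ h)
  simp

theorem mod_injective (h : SymRep 2 E ρ ψ) (hm : 1 ≤ m) : Function.Injective ψ := by
  classical
  obtain ⟨k, rfl⟩ : ∃ k, m = k + 1 := ⟨m - 1, by omega⟩
  have hl : ∀ j : Fin k, ∃ e : ↥E, ρ e = Equiv.swap 0 j.succ := fun j => h.surj _
  choose t ht using hl
  have hw : ∀ j : Fin k, ∃ w ∈ vee 2 G, ∀ v ∈ vee 2 G, ⁅v, (t j : G)⁆ = 1 ∨ ⁅v, (t j : G)⁆ = w :=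
    fun j => comm_value (h.transv (t j) _ _ (Fin.succ_ne_zero j).symm (ht j))
  choose w hwV hval using hw
  let S : Subgroup G := ⨆ j ∈ (Finset.univ : Finset (Fin k)), zpowers (w j)
  have hSV : S ≤ vee 2 G := iSup₂_le fun j _ => zpowers_le.2 (hwV j)
  let K : Subgroup G :=
    { carrier := {g | g ∈ normalizer (S : Set G) ∧ ∀ v ∈ vee 2 G, ⁅v, g⁆ ∈ S}
      one_mem' := ⟨one_mem _, fun v _ => by simp⟩
      mul_mem' := by
        rintro a b ⟨ha, ha'⟩ ⟨hb, hb'⟩
        refine ⟨mul_mem ha hb, fun v hv => ?_⟩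
        rw [show ⁅v, a * b⁆ = ⁅v, a⁆ * (a * ⁅v, b⁆ * a⁻¹) from by
          simp only [commutatorElement_def]; group]
        exact mul_mem (ha' v hv) ((mem_normalizer_iff.1 ha _).1 (hb' v hv))
      inv_mem' := by
        rintro a ⟨ha, ha'⟩
        refine ⟨inv_mem ha, fun v hv => ?_⟩
        rw [show ⁅v, a⁻¹⁆ = a⁻¹ * ⁅v, a⁆⁻¹ * a from by simp only [commutatorElement_def]; group]
        exact (mem_normalizer_iff''.1 ha _).1 (inv_mem (ha' v hv)) }
  have htK : ∀ j, (t j : G) ∈ K := by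
    intro j
    have h1 : ∀ v ∈ vee 2 G, ⁅v, (t j : G)⁆ ∈ S := by
      intro v hv
      rcases hval j v hv with e | e <;> rw [e]
      · exact one_mem _
      · exact mem_iSup_of_mem j (mem_iSup_of_mem (Finset.mem_univ j) (mem_zpowers _))
    refine ⟨H74.mem_normalizer_of_conj_mem fun s hs => ?_, h1⟩
    rw [vee_conj_eq (hSV hs)]
    exact mul_mem hs (h1 s (hSV hs))
  have hCK : cee 2 G ≤ K := by
    intro c hc
    refine ⟨centralizer_le_normalizer _ (centralizer_le hSV hc), fun v hv => ?_⟩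
    rw [commutatorElement_eq_one_iff_mul_comm.2 (mem_centralizer_iff.1 hc v hv)]
    exact one_mem _
  have hEK : E ≤ K := by
    have hall : (K.subgroupOf E).map ρ = ⊤ := by
      rw [eq_top_iff, ← Equiv.Perm.closure_isSwap, closure_le]
      have h0 : ∀ j : Fin k, Equiv.swap 0 j.succ ∈ (K.subgroupOf E).map ρ :=
        fun j => ⟨t j, htK j, ht j⟩
      rintro _ ⟨a, b, hab, rfl⟩
      by_cases ha : a = 0
      · obtain ⟨j, rfl⟩ := Fin.exists_succ_eq.2 (fun hb : b = 0 => hab (ha.trans hb.symm))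
        subst ha; exact h0 j
      by_cases hb : b = 0
      · obtain ⟨j, rfl⟩ := Fin.exists_succ_eq.2 ha
        subst hb; rw [Equiv.swap_comm]; exact h0 j
      obtain ⟨i, rfl⟩ := Fin.exists_succ_eq.2 ha
      obtain ⟨j, rfl⟩ := Fin.exists_succ_eq.2 hb
      rw [← Equiv.swap_mul_swap_mul_swap (x := j.succ) (y := 0) (z := i.succ)
        (Fin.succ_ne_zero j) (Ne.symm hab)]
      have e1 : Equiv.swap (0 : Fin (k + 1)) i.succ ∈ (K.subgroupOf E).map ρ := h0 i
      have e2 : Equiv.swap j.succ (0 : Fin (k + 1)) ∈ (K.subgroupOf E).map ρ := by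
        rw [Equiv.swap_comm]; exact h0 j
      exact mul_mem (mul_mem e1 e2) e1
    intro e he
    obtain ⟨x, hx, hxe⟩ : ρ ⟨e, he⟩ ∈ (K.subgroupOf E).map ρ := hall ▸ mem_top _
    have hker := (h.ker (x⁻¹ * ⟨e, he⟩)).1 (by rw [map_mul, map_inv, hxe, inv_mul_cancel])
    have hx' : (x : G) ∈ K := hx
    have := mul_mem hx' (hCK hker)
    simpa using this
  have hle : ⁅vee 2 G, E⁆ ≤ S := commutator_le.2 fun v hv e he => (hEK he).2 v hv
  have hcardS : ∀ s : Finset (Fin k), Nat.card ↥(⨆ j ∈ s, zpowers (w j)) ≤ 2 ^ s.card := by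
    intro s
    induction s using Finset.induction_on with
    | empty => simp
    | @insert a s ha ih =>
      rw [Finset.iSup_insert, Finset.card_insert_of_notMem ha, pow_succ']
      refine (card_sup_le _ _ ?_).trans (Nat.mul_le_mul ?_ ih)
      · refine le_trans ?_ (centralizer_le_normalizer _)
        refine iSup₂_le fun j _ => zpowers_le.2 (mem_centralizer_iff.2 fun x hx => ?_)
        exact vee_comm (zpowers_le.2 (hwV a) hx) (hwV j)
      · rw [Nat.card_zpowers]
        exact orderOf_le_of_pow_eq_one two_pos ((vee_elementary (G := G) (p := 2)).2 _ (hwV a))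
  have hcard : Nat.card ↥⁅vee 2 G, E⁆ ≤ 2 ^ k := by
    refine (card_le_of_le hle).trans ((hcardS Finset.univ).trans (le_of_eq ?_))
    simp
  let φ : ↥⁅vee 2 G, E⁆ → {v : Fin (k + 1) → ZMod 2 // ∑ i, v i = 0} :=
    fun u => ⟨Multiplicative.toAdd (ψ u), h.even u⟩
  have hsurj : Function.Surjective φ := fun v => by
    obtain ⟨u, hu⟩ := h.onto v.1 v.2
    exact ⟨u, Subtype.ext hu⟩
  have hbij : Function.Bijective φ := (Nat.bijective_iff_surjective_and_card φ).2
    ⟨hsurj, le_antisymm (hcard.trans (even_card_ge k)) (Nat.card_le_card_of_surjective _ hsurj)⟩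
  exact fun a b hab => hbij.1 (Subtype.ext (congrArg Multiplicative.toAdd hab))

theorem mod_inf_cent (h : SymRep 2 E ρ ψ) (hm : 1 ≤ m) :
    ⁅vee 2 G, E⁆ ⊓ centralizer (E : Set G) = ⊥ := by
  rw [eq_bot_iff]
  intro u hu
  have h1 := (h.kerψ ⟨u, hu.1⟩).2 hu.2
  rw [← map_one ψ] at h1
  exact mem_bot.2 (congrArg Subtype.val (mod_injective h hm h1))

/-- An element of odd order induces an even permutation. -/
theorem sign_of_coprime {α : Type*} [Fintype α] [DecidableEq α] {H : Type*} [Group H]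
    (f : H →* Equiv.Perm α) {x : H} (hc : (orderOf x).Coprime 2) : Equiv.Perm.sign (f x) = 1 := by
  have h1 : Equiv.Perm.sign (f x) ^ orderOf x = 1 := by
    rw [← map_pow, ← map_pow, pow_orderOf_eq_one, map_one, map_one]
  rcases Int.units_eq_one_or (Equiv.Perm.sign (f x)) with e | e
  · exact e
  · rw [e, Odd.neg_one_pow (Nat.coprime_two_right.1 hc)] at h1
    exact absurd h1 (by decide)

/-- The image of the odd part is the alternating group. -/
theorem residual_image {Li : Subgroup G} (hLi : Li ≤ E) (hsurj : ∀ σ, ∃ e : ↥E, (e : G) ∈ Li ∧ ρ e = σ) :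
    ((Cfsg.pResidualOf 2 Li).subgroupOf E).map ρ = alternatingGroup (Fin m) := by
  rw [Cfsg.pResidualOf, H72.pResidual_map_eq]
  refine le_antisymm ?_ ?_
  · rintro _ ⟨x, hx, rfl⟩
    have key : ∀ g : G, g ∈ closure {x : G | x ∈ Li ∧ (orderOf x).Coprime 2} →
        ∀ hg : g ∈ E, ρ ⟨g, hg⟩ ∈ alternatingGroup (Fin m) := by
      intro g hg
      induction hg using closure_induction with
      | mem x hx =>
        intro hg
        exact Equiv.Perm.mem_alternatingGroup.2 (sign_of_coprime ρ (by rw [Subgroup.orderOf_mk]; exact hx.2))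
      | one => intro hg; exact (map_one ρ).symm ▸ one_mem _
      | mul a b ha hb iha ihb =>
        intro hg
        have hcl : closure {x : G | x ∈ Li ∧ (orderOf x).Coprime 2} ≤ E :=
          (closure_le _).2 fun y hy => hLi hy.1
        have e : (⟨a * b, hg⟩ : ↥E) = ⟨a, hcl ha⟩ * ⟨b, hcl hb⟩ := rfl
        rw [e, map_mul]
        exact mul_mem (iha _) (ihb _)
      | inv a ha iha =>
        intro hg
        have hcl : closure {x : G | x ∈ Li ∧ (orderOf x).Coprime 2} ≤ E :=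
          (closure_le _).2 fun y hy => hLi hy.1
        have e : (⟨a⁻¹, hg⟩ : ↥E) = ⟨a, hcl ha⟩⁻¹ := rfl
        rw [e, map_inv]
        exact inv_mem (iha _)
    exact key x hx x.2
  · rw [← Equiv.Perm.closure_three_cycles_eq_alternating, closure_le]
    intro c hc
    obtain ⟨e, he, rfl⟩ := hsurj c
    obtain ⟨a, ha⟩ := H51.exists_coprime_pow (p := 2) (e : G)
    have hmem : e ^ 2 ^ a ∈ (closure {x : G | x ∈ Li ∧ (orderOf x).Coprime 2}).subgroupOf E :=
      mem_subgroupOf.2 (subset_closure ⟨pow_mem he _, ha⟩)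
    have h3 : orderOf (ρ e) = 3 := Equiv.Perm.IsThreeCycle.orderOf hc
    obtain ⟨j, hj⟩ := exists_pow_eq_self_of_coprime (x := ρ e) (n := 2 ^ a)
      (h3.symm ▸ Nat.Coprime.pow_left a (by norm_num))
    refine ⟨_, pow_mem hmem j, ?_⟩
    rw [map_pow, map_pow]
    exact hj

theorem even_fixed_zero {v : Fin m → ZMod 2} (hm : 3 ≤ m) (hodd : Odd m) (hv : ∑ i, v i = 0)
    (hfix : ∀ σ ∈ alternatingGroup (Fin m), ∀ i, v (σ i) = v i) : v = 0 := by
  classical
  have hconst : ∀ a b, v a = v b := by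
    intro a b
    by_cases hab : a = b
    · rw [hab]
    obtain ⟨c, hca, hcb⟩ : ∃ c, c ≠ a ∧ c ≠ b := by
      by_contra hcon
      push Not at hcon
      have hsub : (Finset.univ : Finset (Fin m)) ⊆ {a, b} := fun c _ => by
        simp only [Finset.mem_insert, Finset.mem_singleton]
        by_cases hc : c = a
        · exact Or.inl hc
        · exact Or.inr (hcon c hc)
      have := (Finset.card_le_card hsub).trans Finset.card_le_two
      simp at this; omega
    have h1 := hfix (Equiv.swap a b * Equiv.swap a c)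
      (Equiv.Perm.isThreeCycle_swap_mul_swap_same hab hca.symm hcb.symm).mem_alternatingGroup c
    have h2 : (Equiv.swap a b * Equiv.swap a c) c = b := by simp
    have h3 := hfix (Equiv.swap b a * Equiv.swap b c)
      (Equiv.Perm.isThreeCycle_swap_mul_swap_same (Ne.symm hab) hcb.symm hca.symm).mem_alternatingGroup c
    have h4 : (Equiv.swap b a * Equiv.swap b c) c = a := by simp
    rw [h2] at h1; rw [h4] at h3
    rw [h1, h3]
  funext a
  have h0 : (∑ i, v i) = v a := by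
    rw [Finset.sum_congr rfl fun i _ => hconst i a, Finset.sum_const, Finset.card_univ, Fintype.card_fin]
    obtain ⟨k, rfl⟩ := hodd
    rw [add_smul, one_smul, mul_smul, two_nsmul, CharTwo.add_self_eq_zero, zero_add]
  rw [Pi.zero_apply, ← h0, hv]

/-- Conjugation by an element of the component, read in the coordinates. -/
theorem mod_act (h : SymRep 2 E ρ ψ) (e : ↥E) (u : ↥⁅vee 2 G, E⁆) :
    ∃ w : ↥⁅vee 2 G, E⁆, (w : G) = (e : G) * (u : G) * (e : G)⁻¹ ∧
      ∀ i, Multiplicative.toAdd (ψ w) i = Multiplicative.toAdd (ψ u) ((ρ e)⁻¹ i) :=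
  ⟨⟨_, (mem_normalizer_iff.1 (normalizer_commutator_ge_right (vee 2 G) E e.2) _).1 u.2⟩, rfl,
    h.act e u _ rfl⟩

/-- A subgroup inducing all even permutations fixes nothing in the module. -/
theorem mod_fixed (h : SymRep 2 E ρ ψ) (hm : 3 ≤ m) (hodd : Odd m) {X : Subgroup G}
    (hX : alternatingGroup (Fin m) ≤ (X.subgroupOf E).map ρ) :
    ⁅vee 2 G, E⁆ ⊓ centralizer (X : Set G) = ⊥ := by
  rw [eq_bot_iff]
  intro u hu
  have hz : Multiplicative.toAdd (ψ ⟨u, hu.1⟩) = 0 := by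
    refine even_fixed_zero hm hodd (h.even _) fun σ hσ i => ?_
    obtain ⟨e, he, hρ⟩ := hX (inv_mem hσ)
    obtain ⟨w, hw, hwi⟩ := mod_act h e ⟨u, hu.1⟩
    have hwu : w = ⟨u, hu.1⟩ := Subtype.ext (by
      have hc : (e : G) * u = u * (e : G) := mem_centralizer_iff.1 (mem_inf.1 hu).2 _ he
      rw [hw]
      show (e : G) * u * (e : G)⁻¹ = u
      rw [hc, mul_inv_cancel_right])
    have := hwi i
    rw [hwu, hρ, inv_inv] at this
    exact this.symm
  have h1 : ψ ⟨u, hu.1⟩ = 1 := Multiplicative.toAdd.injective (by rw [hz, toAdd_one])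
  rw [← map_one ψ] at h1
  exact mem_bot.2 (congrArg Subtype.val (mod_injective h (by omega) h1))

/-- A subgroup inducing all even permutations and normalised by the component sees the whole module. -/
theorem mod_comm_eq (h : SymRep 2 E ρ ψ) (hm : 3 ≤ m) (hodd : Odd m) {X : Subgroup G}
    (hXE : X ≤ E) (hEX : E ≤ normalizer (X : Set G))
    (hX : alternatingGroup (Fin m) ≤ (X.subgroupOf E).map ρ) :
    ⁅vee 2 G, X⁆ = ⁅vee 2 G, E⁆ := by
  haveI := vee_normal (G := G) (p := 2)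
  refine le_antisymm (commutator_mono le_rfl hXE) ?_
  have hle : ∀ u ∈ ⁅vee 2 G, X⁆, u ∈ ⁅vee 2 G, E⁆ := commutator_mono le_rfl hXE
  have hEN : E ≤ normalizer ((⁅vee 2 G, X⁆ : Subgroup G) : Set G) :=
    le_normalizer_comm (le_normalizer_of_normal) hEX
  let A : AddSubgroup (Fin m → ZMod 2) :=
    { carrier := {v | ∃ u : ↥⁅vee 2 G, E⁆, (u : G) ∈ ⁅vee 2 G, X⁆ ∧ Multiplicative.toAdd (ψ u) = v}
      zero_mem' := ⟨1, one_mem _, by simp⟩
      add_mem' := by
        rintro _ _ ⟨a, ha, rfl⟩ ⟨b, hb, rfl⟩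
        exact ⟨a * b, mul_mem ha hb, by simp⟩
      neg_mem' := by
        rintro _ ⟨a, ha, rfl⟩
        exact ⟨a⁻¹, inv_mem ha, by simp⟩ }
  have hA : ∀ σ ∈ alternatingGroup (Fin m), ∀ v ∈ A, (fun i => v (σ i)) ∈ A := by
    rintro σ hσ _ ⟨u, hu, rfl⟩
    obtain ⟨e, he, hρ⟩ := hX (inv_mem hσ)
    obtain ⟨w, hw, hwi⟩ := mod_act h e u
    refine ⟨w, hw ▸ (mem_normalizer_iff.1 (hEN e.2) _).1 hu, funext fun i => ?_⟩
    rw [hwi, hρ, inv_inv]
  obtain ⟨a, b, hab⟩ : ∃ a b : Fin m, a ≠ b := ⟨⟨0, by omega⟩, ⟨1, by omega⟩, by simp⟩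
  obtain ⟨u₀, hu₀, hne⟩ : ∃ u ∈ ⁅vee 2 G, X⁆, u ≠ (1 : G) := by
    refine (bot_or_exists_ne_one _).resolve_left fun hbot => ?_
    obtain ⟨u, hu⟩ := h.onto (Pi.single a 1 + Pi.single b 1)
      (by simp only [Pi.add_apply, Finset.sum_add_distrib, Fintype.sum_pi_single']; exact CharTwo.add_self_eq_zero 1)
    have hu1 : (u : G) ∈ ⁅vee 2 G, E⁆ ⊓ centralizer (X : Set G) :=
      ⟨u.2, commutator_eq_bot_iff_le_centralizer.1 hbot (mod_le_vee u.2)⟩
    rw [mod_fixed h hm hodd hX, mem_bot] at hu1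
    rw [show u = 1 from Subtype.ext hu1, map_one, toAdd_one] at hu
    have := congrFun hu a
    simp [hab] at this
  intro x hx
  have hAx := H51.alt_evenWeight_irreducible hodd A hA
    (show Multiplicative.toAdd (ψ ⟨u₀, hle _ hu₀⟩) ∈ A from ⟨_, hu₀, rfl⟩) (h.even _)
    (fun e => hne (congrArg Subtype.val (mod_injective h (by omega)
      (show ψ ⟨u₀, hle _ hu₀⟩ = ψ 1 by
        rw [map_one]; exact Multiplicative.toAdd.injective (by rw [e, toAdd_one]))))) (h.even ⟨x, hx⟩)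
  obtain ⟨w, hw, hwx⟩ := hAx
  rw [mod_injective h (by omega) (Multiplicative.toAdd.injective hwx)] at hw
  exact hw

end Cfsg.Agent.H88.Push
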