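import Cfsg.Agent.H88.Push.SymDisjoint

/-!
Symmetric components: the odd part meets `O_2(G)` in the module.
-/

set_option autoImplicit false
set_option linter.style.haveILetI false
set_option linter.unusedSectionVars false
set_option maxHeartbeats 800000

open scoped commutatorElement Pointwise

namespace Cfsg.Agent.H88.Push

open Subgroup Cfsg.Agent.H34.Push

universe u

variable {G : Type u} [Group G] [Finite G] [Fact (Nat.Prime 2)]
variable {r n : ℕ} {E : Fin r → Subgroup G} {T : Sylow 2 G} {M : Subgroup G}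

theorem alternating_le_commutator (α : Type*) [Fintype α] [DecidableEq α] :
    alternatingGroup α ≤ commutator (Equiv.Perm α) := by
  rw [← Equiv.Perm.closure_three_cycles_eq_alternating, closure_le]
  intro c hc
  obtain ⟨g, hg⟩ := isConj_iff.1 (Equiv.Perm.isConj_iff_cycleType_eq.2
    (show c⁻¹.cycleType = c.cycleType from Equiv.Perm.cycleType_inv c))
  have h2 : c ^ 2 ∈ commutator (Equiv.Perm α) := by
    have h1 := commutator_mem_commutator (G := Equiv.Perm α) (mem_top c) (mem_top g)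
    rwa [commutatorElement_def, mul_assoc c g, mul_assoc c, hg, ← pow_two] at h1
  have h3 : c ^ 3 = 1 := by
    rw [← Equiv.Perm.IsThreeCycle.orderOf hc]; exact pow_orderOf_eq_one c
  have h4 := pow_mem h2 2
  rwa [← pow_mul, show 2 * 2 = 3 + 1 from rfl, pow_add, h3, one_mul, pow_one] at h4

variable (hc : Ctx T M) (h : SymCase T E n) (co : Core T E) (si : SymImages T E n)
  (hQ : cee 2 G = Cfsg.pCore 2 G)
  (hP : ⁅pee 2 (T : Subgroup G), Cfsg.pResidual 2 G⁆ ≤ wee 2 (T : Subgroup G))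

include h co si hQ

theorem mod_comm_blk (i : Fin r) :
    ⁅vee 2 G, blk (T : Subgroup G) (E i)⁆ = ⁅vee 2 G, E i⁆ := by
  obtain ⟨ρ, ψ, rep⟩ := h.rep i
  refine mod_comm_eq rep (three_le h.pos_n) (odd_deg h.pos_n) ((blk_le _ _).trans inf_le_right) ?_
    (blk_image h.toComps co hQ rep).ge
  intro g hg
  haveI := pCore_normal' (G := G) (p := 2)
  obtain ⟨l, hl, c, hcc, rfl⟩ := mem_sup_of_normal_right.1 ((comp_dedekind h.toComps co hQ i).le hg)
  refine mul_mem (blk_normalizer h.toComps co.L_le i hl.1) ?_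
  -- `O_2(G)` normalises `L ⊓ E i`
  have hQn : Cfsg.pCore 2 G ≤ normalizer ((ell 2 (T : Subgroup G) ⊓ E i : Subgroup G) : Set G) := by
    haveI := ell_normal (T : Subgroup G)
    exact (le_inf le_normalizer_of_normal ((hQ ▸ h.cent_le i : Cfsg.pCore 2 G ≤ E i).trans le_normalizer)).trans
      inf_normalizer_le_normalizer_inf
  exact normalizer_le_normalizer_residual _ (hQn hcc)

theorem mod_comm_self (i : Fin r) :
    ⁅⁅vee 2 G, E i⁆, blk (T : Subgroup G) (E i)⁆ = ⁅vee 2 G, E i⁆ := by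
  refine le_antisymm ?_ ?_
  · haveI := vee_normal (G := G) (p := 2)
    exact (commutator_mono mod_le_vee le_rfl).trans (mod_comm_blk h co si hQ i).le
  conv_lhs => rw [← mod_comm_blk h co si hQ i]
  rw [commutator_le]
  intro v hv e he
  obtain ⟨c, hcv, u, hu, rfl⟩ : v ∈ ((vee 2 G ⊓ centralizer (E i : Set G) : Subgroup G) : Set G) *
      ((⁅vee 2 G, E i⁆ : Subgroup G) : Set G) := by
    rw [← coe_mul_of_left_le_normalizer_right _ _ ?_]
    · exact vee_split h.toComps i hv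
    · intro x hx
      exact centralizer_le_normalizer _ (mem_centralizer_iff.2 fun y hy => vee_comm (mod_le_vee hy) hx.1)
  have heE : e ∈ E i := (blk_le _ _ he).2
  have hce : c * e = e * c := (mem_centralizer_iff.1 hcv.2 e heE).symm
  have huV : u ∈ vee 2 G := mod_le_vee hu
  rw [show ⁅c * u, e⁆ = ⁅u, e⁆ from by
    have h1 : c * ⁅u, e⁆ = ⁅u, e⁆ * c :=
      vee_comm hcv.1 (vee_comm_mem huV e)
    calc ⁅c * u, e⁆ = c * ⁅u, e⁆ * (e * c⁻¹ * e⁻¹) := by simp only [commutatorElement_def]; group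
      _ = ⁅u, e⁆ * c * (e * c⁻¹ * e⁻¹) := by rw [h1]
      _ = ⁅u, e⁆ * ((c * e) * c⁻¹ * e⁻¹) := by group
      _ = ⁅u, e⁆ := by rw [hce]; group]
  exact commutator_mem_commutator hu he

theorem mod_le_blk (i : Fin r) : ⁅vee 2 G, E i⁆ ≤ blk (T : Subgroup G) (E i) := by
  rw [← mod_comm_self h co si hQ i]
  refine commutator_le_of_le_normalizer' ?_
  exact (mod_le_vee.trans ((vee_le_baumann co).trans (baumann_le_ell _))).trans
    (blk_normalizer h.toComps co.L_le i)
where
  commutator_le_of_le_normalizer' {A B : Subgroup G} (hAB : A ≤ normalizer (B : Set G)) : ⁅A, B⁆ ≤ B := by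
    rw [commutator_le]
    intro a ha b hb
    rw [commutatorElement_def]
    exact mul_mem ((mem_normalizer_iff.1 (hAB ha) b).1 hb) (inv_mem hb)

include hc hP

/-- The kernel of the odd part is the module. -/
theorem blk_inf_core (i : Fin r) :
    blk (T : Subgroup G) (E i) ⊓ Cfsg.pCore 2 G = ⁅vee 2 G, E i⁆ := by
  classical
  refine le_antisymm ?_ (le_inf (mod_le_blk h co si hQ i) (mod_le_vee.trans vee_le_core))
  haveI := pCore_normal' (G := G) (p := 2)
  set B := Cfsg.baumannSubgroupOf 2 (T : Subgroup G) with hB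
  set D := blk (T : Subgroup G) (E i) with hD
  set U := ⁅vee 2 G, E i⁆ with hU
  set K := D ⊓ Cfsg.pCore 2 G with hK
  obtain ⟨ρ, ψ, rep⟩ := h.rep i
  obtain ⟨σ, f, lv⟩ := si.leaves i ρ ψ rep
  obtain ⟨a₀, ha₀⟩ : ∃ a, a ≠ f := by
    by_contra hcon
    push Not at hcon
    have h1 := Fintype.card_le_one_iff.2 fun a b => (hcon a).trans (hcon b).symm
    have := three_le h.pos_n
    simp at h1
  obtain ⟨y, hyB, hy2, hρy⟩ := lv.lift a₀ ha₀
  have hσa₀ : a₀ ≠ σ a₀ := Ne.symm fun e => ha₀ ((lv.fixed a₀).1 e)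
  have hyL : (y : G) ∈ ell 2 (T : Subgroup G) := baumann_le_ell _ hyB
  have hDE : D ≤ E i := (blk_le _ _).trans inf_le_right
  have hUE : E i ≤ normalizer (U : Set G) := normalizer_commutator_ge_right _ _
  have hKP : K ≤ pee 2 (T : Subgroup G) := by
    rw [← co.L_core]; exact inf_le_inf_right _ ((blk_le _ _).trans inf_le_left)
  have hKB : K ≤ B := hKP.trans (pee_le_baumann co)
  have hKd : ⁅K, D⁆ ≤ U :=
    (commutator_mono hKP le_rfl).trans ((pee_comm_blk co hP i).trans (mod_comm_blk h co si hQ i).le)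
  set H := D ⊔ zpowers (y : G) with hH
  have hyD : zpowers (y : G) ≤ normalizer (D : Set G) :=
    zpowers_le.2 (blk_normalizer h.toComps co.L_le i hyL)
  have hHE : H ≤ E i := sup_le hDE (zpowers_le.2 y.2)
  have hHn : H ≤ normalizer (D : Set G) := sup_le le_normalizer hyD
  have hyG2 : (y : G) * y = 1 := congrArg Subtype.val hy2
  have hHform : ∀ g ∈ H, g ∈ D ∨ ∃ d ∈ D, g = d * y := by
    intro g hg
    rw [hH, ← SetLike.mem_coe, coe_mul_of_right_le_normalizer_left _ _ hyD] at hg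
    obtain ⟨d, hd, z, ⟨k, rfl⟩, rfl⟩ := hg
    have hsq : (y : G) ^ (2 : ℤ) = 1 := by rw [zpow_two]; exact hyG2
    rcases Int.even_or_odd k with ⟨j, rfl⟩ | ⟨j, rfl⟩
    · left
      show d * (y : G) ^ (j + j) ∈ D
      rw [← two_mul, zpow_mul, hsq, one_zpow, mul_one]; exact hd
    · right
      refine ⟨d, hd, ?_⟩
      show d * (y : G) ^ (2 * j + 1) = _
      rw [zpow_add, zpow_mul, hsq, one_zpow, one_mul, zpow_one]
  have hsignD : ∀ d : ↥(E i), (d : G) ∈ D → Equiv.Perm.sign (ρ d) = 1 := fun d hd =>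
    Equiv.Perm.mem_alternatingGroup.1 ((blk_image h.toComps co hQ rep).le ⟨d, hd, rfl⟩)
  let fH : ↥H →* Equiv.Perm (Fin (2 ^ n + 1)) := ρ.comp (Subgroup.inclusion hHE)
  have hfHker : ∀ x : ↥H, fH x = 1 → (x : G) ∈ K := by
    intro x hx
    have hxQ : (x : G) ∈ Cfsg.pCore 2 G := hQ ▸ (rep.ker _).1 hx
    refine ⟨?_, hxQ⟩
    rcases hHform x x.2 with h1 | ⟨d, hd, h1⟩
    · exact h1
    · exfalso
      have h2 : (Subgroup.inclusion hHE x : ↥(E i)) = ⟨d, hDE hd⟩ * y := Subtype.ext h1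
      have h3 : Equiv.Perm.sign (fH x) = -1 := by
        show Equiv.Perm.sign (ρ (Subgroup.inclusion hHE x)) = -1
        rw [h2, map_mul, map_mul, hsignD _ hd, hρy, Equiv.Perm.sign_swap hσa₀, one_mul]
      rw [hx, map_one] at h3
      exact absurd h3 (by decide)
  set N0 := U ⊔ ⁅K, H⁆ with hN0
  have hN0Q : N0 ≤ Cfsg.pCore 2 G :=
    sup_le (mod_le_vee.trans vee_le_core) ((commutator_mono inf_le_right le_rfl).trans
      (commutator_le_left _ _))
  have hN0H : N0 ≤ H := by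
    refine sup_le ((mod_le_blk h co si hQ i).trans le_sup_left) ?_
    rw [commutator_le]
    intro k hk g hg
    have hk' : k ∈ H := le_sup_left (b := zpowers (y : G)) hk.1
    rw [commutatorElement_def]
    exact mul_mem (mul_mem (mul_mem hk' hg) (inv_mem hk')) (inv_mem hg)
  have hHN0 : H ≤ normalizer (N0 : Set G) := by
    have hHK : H ≤ normalizer (K : Set G) :=
      (le_inf hHn le_normalizer_of_normal).trans inf_normalizer_le_normalizer_inf
    intro g hg
    rw [mem_normalizer_iff_map_conj_eq]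
    exact (Subgroup.map_sup _ _ _).trans (congrArg₂ (· ⊔ ·)
      (mem_normalizer_iff_map_conj_eq.1 (hUE (hHE hg)))
      (mem_normalizer_iff_map_conj_eq.1 (le_normalizer_comm hHK le_normalizer hg)))
  haveI : (N0.subgroupOf H).Normal := Subgroup.normal_subgroupOf_of_le_normalizer hHN0
  let q := QuotientGroup.mk' (N0.subgroupOf H)
  have hN0ker : N0.subgroupOf H ≤ fH.ker := by
    intro x hx
    rw [MonoidHom.mem_ker]
    exact (rep.ker _).2 (hQ ▸ hN0Q hx)
  let fb : ↥H ⧸ N0.subgroupOf H →* Equiv.Perm (Fin (2 ^ n + 1)) := QuotientGroup.lift _ fH hN0ker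
  have hfbq : ∀ x : ↥H, fb (q x) = fH x := fun x => rfl
  have hfb : Function.Surjective fb := by
    intro τ
    rcases Int.units_eq_one_or (Equiv.Perm.sign τ) with he | he
    · obtain ⟨d, hd, hde⟩ := (blk_image h.toComps co hQ rep).ge (Equiv.Perm.mem_alternatingGroup.2 he)
      refine ⟨q ⟨d, mem_sup_left hd⟩, ?_⟩
      rw [hfbq]; exact hde
    · have he' : Equiv.Perm.sign (τ * ρ y) = 1 := by
        rw [map_mul, he, hρy, Equiv.Perm.sign_swap hσa₀]; rfl
      obtain ⟨d, hd, hde⟩ := (blk_image h.toComps co hQ rep).ge (Equiv.Perm.mem_alternatingGroup.2 he')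
      refine ⟨q (⟨d, mem_sup_left hd⟩ * ⟨y, mem_sup_right (mem_zpowers _)⟩), ?_⟩
      rw [hfbq]
      show ρ (Subgroup.inclusion hHE _ ) = τ
      rw [map_mul]
      show ρ (d * y) = τ
      rw [map_mul, hde, mul_assoc, ← map_mul, hy2, map_one, mul_one]
  have hker : ∀ z : ↥H ⧸ N0.subgroupOf H, fb z = 1 → ∃ x : ↥H, (x : G) ∈ K ∧ q x = z := by
    intro z hz
    obtain ⟨x, rfl⟩ := QuotientGroup.mk'_surjective _ z
    exact ⟨x, hfHker x hz, rfl⟩
  have hcen : fb.ker ≤ Subgroup.center _ := by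
    intro z hz
    obtain ⟨x, hx, rfl⟩ := hker z hz
    rw [Subgroup.mem_center_iff]
    intro w
    obtain ⟨g, rfl⟩ := QuotientGroup.mk'_surjective _ w
    refine (commutatorElement_eq_one_iff_mul_comm.1 ?_).symm
    rw [← map_commutatorElement]
    exact (QuotientGroup.eq_one_iff _).2 (show ((⁅x, g⁆ : ↥H) : G) ∈ N0 from
      mem_sup_right (commutator_mem_commutator hx g.2))
  let yH : ↥H := ⟨y, mem_sup_right (mem_zpowers _)⟩
  have hyfb : fb (q yH) = Equiv.swap a₀ (σ a₀) := hρy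
  have hdisj : ∀ t u, (fb t).IsSwap → (fb u).IsSwap → (fb t).Disjoint (fb u) → Commute t u := by
    intro t u ⟨a, b, hab, hta⟩ ⟨c, d, hcd, huc⟩ hdis
    rw [hta, huc] at hdis
    have hac : a ≠ c ∧ a ≠ d ∧ b ≠ c ∧ b ≠ d := by
      refine ⟨?_, ?_, ?_, ?_⟩ <;> rintro rfl
      · rcases hdis a with e | e <;> simp [hab, hcd, Ne.symm hab, Ne.symm hcd] at e
      · rcases hdis a with e | e <;> simp [hab, hcd, Ne.symm hab, Ne.symm hcd] at e
      · rcases hdis b with e | e <;> simp [hab, hcd, Ne.symm hab, Ne.symm hcd] at e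
      · rcases hdis b with e | e <;> simp [hab, hcd, Ne.symm hab, Ne.symm hcd] at e
    obtain ⟨a₁, ha₁f, ha₁, ha₁'⟩ : ∃ a₁, a₁ ≠ f ∧ a₁ ≠ a₀ ∧ a₁ ≠ σ a₀ := by
      by_contra hcon
      push Not at hcon
      have hsub : ({a, b, c, d} : Finset (Fin (2 ^ n + 1))) ⊆ {f, a₀, σ a₀} := by
        intro x _
        simp only [Finset.mem_insert, Finset.mem_singleton]
        by_cases h1 : x = f
        · exact Or.inl h1
        by_cases h2 : x = a₀
        · exact Or.inr (Or.inl h2)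
        exact Or.inr (Or.inr (hcon x h1 h2))
      have h4 : ({a, b, c, d} : Finset (Fin (2 ^ n + 1))).card = 4 := by
        rw [Finset.card_insert_of_notMem, Finset.card_insert_of_notMem, Finset.card_pair hcd]
        · simp [hac.2.2.1, hac.2.2.2]
        · simp [hab, hac.1, hac.2.1]
      have h3 := Finset.card_le_card hsub
      rw [h4] at h3
      have := h3.trans (Finset.card_le_three (a := f) (b := a₀) (c := σ a₀))
      omega
    set b₁ := σ a₁ with hb₁
    have hb₁a : b₁ ≠ a₁ := fun e => ha₁f ((lv.fixed a₁).1 e)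
    have hb₁0 : b₁ ≠ a₀ := fun e => ha₁' (by rw [← e, hb₁, lv.invol])
    have hb₁1 : b₁ ≠ σ a₀ := fun e => ha₁ (σ.injective e)
    -- an even permutation carrying the first pair to the second
    set π := Equiv.swap a₀ a₁ * Equiv.swap (σ a₀) b₁ with hπ
    have hπs : π ∈ alternatingGroup (Fin (2 ^ n + 1)) := by
      rw [Equiv.Perm.mem_alternatingGroup, hπ, map_mul, Equiv.Perm.sign_swap (Ne.symm ha₁),
        Equiv.Perm.sign_swap (Ne.symm hb₁1)]
      rfl
    have hπ0 : π a₀ = a₁ := by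
      rw [hπ, Equiv.Perm.mul_apply, Equiv.swap_apply_of_ne_of_ne hσa₀ (Ne.symm hb₁0), Equiv.swap_apply_left]
    have hπ1 : π (σ a₀) = b₁ := by
      rw [hπ, Equiv.Perm.mul_apply, Equiv.swap_apply_left, Equiv.swap_apply_of_ne_of_ne hb₁0 hb₁a]
    obtain ⟨e, he, heπ⟩ := (blk_image h.toComps co hQ rep).ge hπs
    let y' : ↥(E i) := e * y * e⁻¹
    have hy'ρ : ρ y' = Equiv.swap a₁ b₁ := by
      simp only [y', map_mul, map_inv, heπ, hρy]
      rw [← Equiv.swap_apply_apply, hπ0, hπ1]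
    have heD : (e : G) ∈ D := he
    have hy'L : (y' : G) ∈ ell 2 (T : Subgroup G) := by
      simp only [y', Subgroup.coe_mul, InvMemClass.coe_inv]
      exact mul_mem (mul_mem (blk_le _ _ heD).1 hyL) (inv_mem (blk_le _ _ heD).1)
    have hy'B : (y' : G) ∈ B := by
      refine mem_baumann hQ co.P_eq co.L_core hy'L ((lv.image y').2 fun x => ?_)
      rw [hy'ρ]
      by_cases hx1 : x = a₁
      · right; rw [hx1, Equiv.swap_apply_left]
      by_cases hx2 : x = b₁
      · right; rw [hx2, Equiv.swap_apply_right, hb₁, lv.invol]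
      left; exact Equiv.swap_apply_of_ne_of_ne hx1 hx2
    have hd' : (y' : G) * (y : G)⁻¹ ∈ D := by
      simp only [y', Subgroup.coe_mul, InvMemClass.coe_inv]
      have := mul_mem heD ((mem_normalizer_iff.1 (hyD (mem_zpowers _)) _).1 (inv_mem heD))
      simpa [mul_assoc] using this
    have hz := leaves_comm hc h co si hQ hP rep lv ha₀ hyB hρy hy'B hd'
    let y'H : ↥H := ⟨y', by
      have := mul_mem (mem_sup_left (T := zpowers (y : G)) hd') (mem_sup_right (S := D) (mem_zpowers (y : G)))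
      simpa using this⟩
    have hcomm0 : Commute (q yH) (q y'H) := by
      refine commutatorElement_eq_one_iff_commute.1 ?_
      rw [← map_commutatorElement]
      exact (QuotientGroup.eq_one_iff _).2 (show ((⁅yH, y'H⁆ : ↥H) : G) ∈ N0 from mem_sup_left hz)
    -- a permutation carrying the model pairs to the given ones
    have hinj : ∀ (p₁ p₂ p₃ p₄ : Fin (2 ^ n + 1)), p₁ ≠ p₂ → p₁ ≠ p₃ → p₁ ≠ p₄ → p₂ ≠ p₃ → p₂ ≠ p₄ →
        p₃ ≠ p₄ → Function.Injective (![p₁, p₂, p₃, p₄] : Fin 4 → Fin (2 ^ n + 1)) := by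
      intro p₁ p₂ p₃ p₄ h12 h13 h14 h23 h24 h34 x z hxz
      fin_cases x <;> fin_cases z <;> simp at hxz <;>
        first
          | rfl
          | exact absurd hxz (by assumption)
          | exact absurd hxz.symm (by assumption)
    haveI := Equiv.Perm.isMultiplyPretransitive (Fin (2 ^ n + 1)) 4
    obtain ⟨g, hg⟩ := MulAction.exists_smul_eq (Equiv.Perm (Fin (2 ^ n + 1)))
      (⟨_, hinj a₀ (σ a₀) a₁ b₁ hσa₀ (Ne.symm ha₁) (Ne.symm hb₁0) (Ne.symm ha₁') (Ne.symm hb₁1)
        (Ne.symm hb₁a)⟩ : Fin 4 ↪ Fin (2 ^ n + 1))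
      ⟨_, hinj a b c d hab hac.1 hac.2.1 hac.2.2.1 hac.2.2.2 hcd⟩
    have hg0 : g a₀ = a := congrFun (congrArg DFunLike.coe hg) 0
    have hg1 : g (σ a₀) = b := congrFun (congrArg DFunLike.coe hg) 1
    have hg2 : g a₁ = c := congrFun (congrArg DFunLike.coe hg) 2
    have hg3 : g b₁ = d := congrFun (congrArg DFunLike.coe hg) 3
    obtain ⟨hh, rfl⟩ := hfb g
    have h1 : fb t = fb (hh * q yH * hh⁻¹) := by
      rw [map_mul, map_mul, map_inv, hyfb, ← Equiv.swap_apply_apply, hg0, hg1, hta]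
    have h2 : fb u = fb (hh * q y'H * hh⁻¹) := by
      rw [map_mul, map_mul, map_inv, show fb (q y'H) = Equiv.swap a₁ b₁ from hy'ρ,
        ← Equiv.swap_apply_apply, hg2, hg3, huc]
    have hk1 : ∀ s, Commute ((hh * q yH * hh⁻¹)⁻¹ * t) s := fun s =>
      (Subgroup.mem_center_iff.1 (hcen (by rw [MonoidHom.mem_ker, map_mul, map_inv, ← h1, inv_mul_cancel])) s).symm
    have hk2 : ∀ s, Commute ((hh * q y'H * hh⁻¹)⁻¹ * u) s := fun s =>
      (Subgroup.mem_center_iff.1 (hcen (by rw [MonoidHom.mem_ker, map_mul, map_inv, ← h2, inv_mul_cancel])) s).symm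
    have hconj : Commute (hh * q yH * hh⁻¹) (hh * q y'H * hh⁻¹) := by
      show _ = _
      calc hh * q yH * hh⁻¹ * (hh * q y'H * hh⁻¹) = hh * (q yH * q y'H) * hh⁻¹ := by group
        _ = hh * (q y'H * q yH) * hh⁻¹ := by rw [hcomm0.eq]
        _ = _ := by group
    have h3 : Commute ((hh * q yH * hh⁻¹) * ((hh * q yH * hh⁻¹)⁻¹ * t))
        ((hh * q y'H * hh⁻¹) * ((hh * q y'H * hh⁻¹)⁻¹ * u)) :=
      Commute.mul_right (Commute.mul_left hconj (hk1 _)) (hk2 _).symm
    rwa [mul_inv_cancel_left, mul_inv_cancel_left] at h3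
  have ht : 2 ^ n + 1 ≤ 1 ∨ ∃ t, t * t = 1 ∧ (fb t).IsSwap :=
    Or.inr ⟨q yH, by
      rw [← map_mul, show yH * yH = 1 from Subtype.ext hyG2, map_one],
      a₀, σ a₀, hσa₀, hyfb⟩
  have hsplit := H39.Push.commutator_inf_ker fb hfb hcen ht hdisj
  -- the odd part lies in the derived subgroup
  have hodd : D ≤ (((commutator (↥H ⧸ N0.subgroupOf H)).comap q)).map H.subtype := by
    refine (blk_eq _ _).le.trans ((closure_le _).2 ?_)
    rintro e ⟨he, hce⟩
    have heD : e ∈ D := by rw [hD, blk_eq]; exact subset_closure ⟨he, hce⟩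
    let eH : ↥H := ⟨e, mem_sup_left heD⟩
    refine ⟨eH, ?_, rfl⟩
    show q eH ∈ commutator _
    have hfe : fb (q eH) ∈ (commutator (↥H ⧸ N0.subgroupOf H)).map fb := by
      rw [_root_.commutator_def, Subgroup.map_commutator, Subgroup.map_top_of_surjective fb hfb]
      exact alternating_le_commutator _ ((blk_image h.toComps co hQ rep).le ⟨⟨e, hDE heD⟩, heD, rfl⟩)
    obtain ⟨c, hcmem, hce'⟩ := hfe
    obtain ⟨k, hk, hkq⟩ := hker (c⁻¹ * q eH) (by rw [map_mul, map_inv, hce', inv_mul_cancel])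
    let ab := QuotientGroup.mk' (commutator (↥H ⧸ N0.subgroupOf H))
    have h1 : ab (q eH) = ab (q k) := by
      rw [hkq, map_mul, show ab c⁻¹ = 1 from (QuotientGroup.eq_one_iff _).2 (inv_mem hcmem), one_mul]
    obtain ⟨s, hs⟩ := (H72.pCore_isPGroup (G := G) 2) ⟨_, hk.2⟩
    have h2 : ab (q eH) ^ 2 ^ s = 1 := by
      rw [h1, ← map_pow, ← map_pow,
        show k ^ 2 ^ s = 1 from Subtype.ext (by simpa using congrArg Subtype.val hs), map_one, map_one]
    have h3 : ab (q eH) ^ orderOf e = 1 := by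
      rw [← map_pow, ← map_pow, show eH ^ orderOf e = 1 from Subtype.ext (pow_orderOf_eq_one e),
        map_one, map_one]
    have h4 := pow_gcd_eq_one.2 ⟨h3, h2⟩
    rw [(hce.pow_right s).gcd_eq_one, pow_one] at h4
    exact (QuotientGroup.eq_one_iff _).1 h4
  have hKN : K ≤ N0 := by
    intro x hx
    obtain ⟨xH, hxc, rfl⟩ := hodd hx.1
    have hx2 : fH xH = 1 := (rep.ker _).2 (hQ ▸ hx.2)
    have h1 : q xH ∈ commutator _ ⊓ fb.ker :=
      mem_inf.2 ⟨hxc, MonoidHom.mem_ker.2 ((hfbq xH).trans hx2)⟩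
    rw [hsplit, mem_bot] at h1
    exact mem_subgroupOf.1 ((QuotientGroup.eq_one_iff xH).1 h1)
  -- nilpotency of `B`
  have hKB' : K ≤ U ⊔ ⁅K, B⁆ := by
    refine hKN.trans (sup_le le_sup_left ?_)
    rw [commutator_le]
    intro k hk g hg
    rcases hHform g hg with hgD | ⟨d, hd, rfl⟩
    · exact mem_sup_left (hKd (commutator_mem_commutator hk hgD))
    · have h1 : ⁅k, d⁆ ∈ U := hKd (commutator_mem_commutator hk hd)
      have hw : ⁅k, (y : G)⁆ ∈ ⁅K, B⁆ := commutator_mem_commutator hk hyB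
      have hwK : ⁅k, (y : G)⁆ ∈ K := by
        refine ⟨?_, (commutator_le_left _ _) (commutator_mem_commutator hk.2 (mem_top (y : G)))⟩
        rw [commutatorElement_def, mul_assoc k (y : G), mul_assoc k]
        exact mul_mem hk.1 ((mem_normalizer_iff.1 (hyD (mem_zpowers _)) _).1 (inv_mem hk.1))
      have h2 : ⁅⁅k, (y : G)⁆, d⁆ ∈ U := hKd (commutator_mem_commutator hwK hd)
      rw [show ⁅k, d * y⁆ = ⁅k, d⁆ * (⁅⁅k, (y : G)⁆, d⁆⁻¹ * ⁅k, (y : G)⁆) from by
        simp only [commutatorElement_def]; group]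
      exact mul_mem (mem_sup_left h1) (mul_mem (mem_sup_left (inv_mem h2)) (mem_sup_right hw))
  exact H73.le_of_le_sup_commutator (baumann_isP (T := T)) hKB (mod_le_vee.trans (vee_le_baumann co))
    ((co.B_le).trans (sup_le_normalizer_mod h.toComps i)) hKB'

end Cfsg.Agent.H88.Push
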