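import Cfsg.Agent.H88.Push.SymKey

/-!
Symmetric components: commutators of disjoint leaves lie in the module.
-/

set_option autoImplicit false
set_option linter.style.haveILetI false
set_option linter.unusedSectionVars false
set_option maxHeartbeats 800000

open scoped commutatorElement Pointwise

namespace Cfsg.Agent.H88.Push

open Subgroup Cfsg.Agent.H34.Push

universe u

variable {G : Type u} [Group G] [Finite G] [Fact (Nat.Prime 2)]
variable {r n : ℕ} {E : Fin r → Subgroup G} {T : Sylow 2 G} {M : Subgroup G}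

theorem three_le (hn : 1 ≤ n) : 3 ≤ 2 ^ n + 1 := by
  have := Nat.pow_le_pow_right (show 2 > 0 by norm_num) hn; omega

theorem odd_deg (hn : 1 ≤ n) : Odd (2 ^ n + 1) := by
  obtain ⟨k, rfl⟩ : ∃ k, n = k + 1 := ⟨n - 1, by omega⟩
  exact ⟨2 ^ k, by ring⟩

theorem mods_inf (h : SymCase T E n) {i j : Fin r} (hij : i ≠ j) :
    ⁅vee 2 G, E i⁆ ⊓ ⁅vee 2 G, E j⁆ = ⊥ := by
  obtain ⟨ρ, ψ, rep⟩ := h.rep i
  rw [eq_bot_iff, ← mod_inf_cent rep (Nat.le_add_left 1 _)]
  exact inf_le_inf_left _ (le_centralizer_iff.1 (cross_cent h.toComps (Ne.symm hij)))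

theorem baumann_isP : IsPGroup 2 (Cfsg.baumannSubgroupOf 2 (T : Subgroup G)) :=
  H51.baumann_isPGroup T

theorem pee_le_baumann (co : Core T E) :
    pee 2 (T : Subgroup G) ≤ Cfsg.baumannSubgroupOf 2 (T : Subgroup G) := by
  rw [← co.P_eq]; exact inf_le_right

theorem vee_le_pee (co : Core T E) : vee 2 G ≤ pee 2 (T : Subgroup G) :=
  (vee_le_wee _).trans co.W_le

theorem vee_le_baumann (co : Core T E) : vee 2 G ≤ Cfsg.baumannSubgroupOf 2 (T : Subgroup G) :=
  (vee_le_pee co).trans (pee_le_baumann co)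

/-- An element of `B` with one commutator value moves one module, by one swap. -/
theorem moved_one (h : SymCase T E n) (co : Core T E) (si : SymImages T E n) {x w : G}
    (hx : x ∈ Cfsg.baumannSubgroupOf 2 (T : Subgroup G))
    (hw : ∀ b ∈ Cfsg.baumannSubgroupOf 2 (T : Subgroup G), ⁅x, b⁆ = 1 ∨ ⁅x, b⁆ = w)
    {j : Fin r} {ρ : ↥(E j) →* Equiv.Perm (Fin (2 ^ n + 1))} {ψ} (rep : SymRep 2 (E j) ρ ψ)
    {σ : Equiv.Perm (Fin (2 ^ n + 1))} {f : Fin (2 ^ n + 1)} (lv : SymLeaves T (E j) ρ σ f)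
    (hj : ¬ x ∈ centralizer ((⁅vee 2 G, E j⁆ : Subgroup G) : Set G)) :
    w ∈ ⁅vee 2 G, E j⁆ ∧ ∃ (e : ↥(E j)) (a : Fin (2 ^ n + 1)), a ≠ f ∧ ρ e = Equiv.swap a (σ a) ∧
      (e : G) ∈ Cfsg.baumannSubgroupOf 2 (T : Subgroup G) ⊔ cee 2 G ∧
      ∀ u ∈ ⁅vee 2 G, E j⁆, x * u * x⁻¹ = (e : G) * u * (e : G)⁻¹ := by
  classical
  obtain ⟨e, he, hact⟩ := act_baumann h.toComps si hx j
  have hleaf := (lv.image e).1 he
  have hne : ρ e ≠ 1 := by
    intro h1
    refine hj (mem_centralizer_iff.2 fun u hu => ?_)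
    have h2 : (e : G) * u = u * (e : G) :=
      (mem_centralizer_iff.1 ((rep.ker e).1 h1) u (mod_le_vee hu)).symm
    have h3 := hact u hu
    rw [h2, mul_inv_cancel_right] at h3
    exact (mul_inv_eq_iff_eq_mul.1 h3).symm
  -- the value at a moved point
  have hval : ∀ a, ρ e a ≠ a → a ≠ f ∧ ρ e a = σ a ∧ σ a ≠ a ∧ ∃ v : ↥⁅vee 2 G, E j⁆, (v : G) = w ∧
      Multiplicative.toAdd (ψ v) = Pi.single a 1 + Pi.single (σ a) 1 := by
    intro a ha
    have hσ : ρ e a = σ a := (hleaf a).resolve_left ha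
    have haf : a ≠ f := fun e' => ha (hσ.trans ((lv.fixed a).2 e'))
    have hfix : ρ e f = f := (hleaf f).elim id fun e' => e'.trans ((lv.fixed f).2 rfl)
    refine ⟨haf, hσ, hσ ▸ ha, ?_⟩
    obtain ⟨u, hu⟩ := rep.onto (Pi.single a 1 + Pi.single f 1)
      (by simp only [Pi.add_apply, Finset.sum_add_distrib, Fintype.sum_pi_single'];
          exact CharTwo.add_self_eq_zero 1)
    obtain ⟨u', hu', hu'i⟩ := mod_act rep e u
    have hu'ψ : Multiplicative.toAdd (ψ u') = Pi.single (σ a) 1 + Pi.single f 1 := by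
      funext c
      rw [hu'i, hu, ← hσ]
      simp only [Pi.add_apply, Pi.single_apply]
      have h1 : ((ρ e)⁻¹ c = a) ↔ (c = ρ e a) := by rw [Equiv.Perm.inv_eq_iff_eq]; 
      have h2 : ((ρ e)⁻¹ c = f) ↔ (c = f) := by
        rw [Equiv.Perm.inv_eq_iff_eq, hfix]
      simp only [h1, h2]
    have hprod : Multiplicative.toAdd (ψ (u * u')) = Pi.single a 1 + Pi.single (σ a) 1 := by
      rw [map_mul, toAdd_mul, hu, hu'ψ]
      funext c
      simp only [Pi.add_apply]
      rw [add_add_add_comm, CharTwo.add_self_eq_zero, add_zero]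
    refine ⟨u * u', ?_, hprod⟩
    have huV : (u : G) ∈ vee 2 G := mod_le_vee u.2
    have hcm : ⁅x, (u : G)⁆ = (u : G) * u' := by
      rw [hu', ← hact u u.2, commutatorElement_def]
      rw [vee_inv huV]
      exact vee_comm (vee_conj huV x) huV
    rcases hw u (vee_le_baumann co huV) with h1 | h1
    · exfalso
      rw [hcm] at h1
      have h2 : u * u' = 1 := Subtype.ext h1
      rw [h2, map_one, toAdd_one] at hprod
      have := congrFun hprod a
      simp [Ne.symm (hσ ▸ ha : σ a ≠ a)] at this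
    · rw [← h1, hcm]; rfl
  obtain ⟨a, ha⟩ : ∃ a, ρ e a ≠ a := by
    by_contra hcon
    push Not at hcon
    exact hne (Equiv.ext hcon)
  obtain ⟨haf, hσ, hσa, v, hv, hvψ⟩ := hval a ha
  refine ⟨hv ▸ v.2, e, a, haf, ?_, he, hact⟩
  refine Equiv.ext fun c => ?_
  by_cases hca : c = a
  · rw [hca, Equiv.swap_apply_left, hσ]
  by_cases hcσ : c = σ a
  · rw [hcσ, Equiv.swap_apply_right]
    rcases hleaf (σ a) with h1 | h1
    · exact absurd ((ρ e).injective (h1.trans hσ.symm)) hσa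
    · exact h1.trans (lv.invol a)
  rw [Equiv.swap_apply_of_ne_of_ne hca hcσ]
  by_contra hc'
  obtain ⟨-, -, hσc, v', hv', hv'ψ⟩ := hval c hc'
  rw [Subtype.ext (a1 := v') (a2 := v) (hv'.trans hv.symm), hvψ] at hv'ψ
  have hac : σ c ≠ a := fun e' => hcσ (by rw [← e', lv.invol])
  have := congrFun hv'ψ a
  simp [Ne.symm hca, Ne.symm hac, Ne.symm hσa] at this

/-- An element of `B` with one commutator value moves at most one module. -/
theorem moved_unique (h : SymCase T E n) (co : Core T E) (si : SymImages T E n) {x w : G}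
    (hx : x ∈ Cfsg.baumannSubgroupOf 2 (T : Subgroup G))
    (hw : ∀ b ∈ Cfsg.baumannSubgroupOf 2 (T : Subgroup G), ⁅x, b⁆ = 1 ∨ ⁅x, b⁆ = w)
    {j k : Fin r} (hjk : j ≠ k)
    (hj : ¬ x ∈ centralizer ((⁅vee 2 G, E j⁆ : Subgroup G) : Set G)) :
    x ∈ centralizer ((⁅vee 2 G, E k⁆ : Subgroup G) : Set G) := by
  by_contra hk
  obtain ⟨ρ, ψ, rep⟩ := h.rep j
  obtain ⟨σ, f, lv⟩ := si.leaves j ρ ψ rep
  obtain ⟨hwj, -⟩ := moved_one h co si hx hw rep lv hj
  obtain ⟨ρ', ψ', rep'⟩ := h.rep k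
  obtain ⟨σ', f', lv'⟩ := si.leaves k ρ' ψ' rep'
  obtain ⟨hwk, -⟩ := moved_one h co si hx hw rep' lv' hk
  have hw1 : w = 1 := mem_bot.1 (mods_inf h hjk ▸ mem_inf.2 ⟨hwj, hwk⟩)
  refine hj (mem_centralizer_iff.2 fun u hu => ?_)
  have hb := vee_le_baumann co (mod_le_vee hu)
  have h1 : ⁅x, u⁆ = 1 := (hw u hb).elim id fun e => e.trans hw1
  exact (commutatorElement_eq_one_iff_mul_comm.1 h1).symm

/-- Every element of `B` centralising all modules is in `O_2(G)`. -/
theorem mem_pee_of_cent (h : SymCase T E n) (co : Core T E) (hQ : cee 2 G = Cfsg.pCore 2 G) {x : G}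
    (hx : x ∈ Cfsg.baumannSubgroupOf 2 (T : Subgroup G))
    (hc : ∀ j, x ∈ centralizer ((⁅vee 2 G, E j⁆ : Subgroup G) : Set G)) : x ∈ pee 2 (T : Subgroup G) := by
  rw [← co.P_eq]
  refine ⟨hQ ▸ (?_ : x ∈ cee 2 G), hx⟩
  have h1 : vee 2 G ≤ centralizer ({x} : Set G) := by
    refine h.dec.ge.trans (sup_le (fun v hv => ?_) (iSup_le fun j v hv => ?_))
    · exact mem_centralizer_singleton_iff.2 (mem_centralizer_iff.1 hv.2 x (co.B_le hx)).symm
    · exact mem_centralizer_singleton_iff.2 (mem_centralizer_iff.1 (hc j) v hv)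
  exact mem_centralizer_iff.2 fun v hv => (mem_centralizer_singleton_iff.1 (h1 hv))

/-- The components are generated by their odd parts and `T`. -/
theorem comp_le_blk_sup (h : SymCase T E n) (co : Core T E) (si : SymImages T E n)
    (hQ : cee 2 G = Cfsg.pCore 2 G) (i : Fin r) :
    E i ≤ blk (T : Subgroup G) (E i) ⊔ (T : Subgroup G) := by
  classical
  obtain ⟨ρ, ψ, rep⟩ := h.rep i
  obtain ⟨σ, f, lv⟩ := si.leaves i ρ ψ rep
  obtain ⟨a, ha⟩ : ∃ a, a ≠ f := by
    by_contra hcon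
    push Not at hcon
    have h1 := Fintype.card_le_one_iff.2 fun a b => (hcon a).trans (hcon b).symm
    have := three_le h.pos_n
    simp at h1
  obtain ⟨y, hyB, -, hy⟩ := lv.lift a ha
  have key : ∀ e : ↥(E i), Equiv.Perm.sign (ρ e) = 1 →
      (e : G) ∈ blk (T : Subgroup G) (E i) ⊔ (T : Subgroup G) := by
    intro e he
    obtain ⟨d, hd, hde⟩ := (blk_image h.toComps co hQ rep).ge (Equiv.Perm.mem_alternatingGroup.2 he)
    have hker := (rep.ker (d⁻¹ * e)).1 (by rw [map_mul, map_inv, hde, inv_mul_cancel])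
    rw [hQ] at hker
    have := mul_mem (mem_sup_left (T := (T : Subgroup G)) (show (d : G) ∈ blk _ _ from hd))
      (mem_sup_right (S := blk (T : Subgroup G) (E i)) (H72.pCore_le_sylow T hker))
    simpa using this
  intro g hg
  rcases Int.units_eq_one_or (Equiv.Perm.sign (ρ ⟨g, hg⟩)) with he | he
  · exact key ⟨g, hg⟩ he
  · have h1 := key (⟨g, hg⟩ * y) (by
      rw [map_mul, map_mul, he, hy, Equiv.Perm.sign_swap (Ne.symm fun e => ha ((lv.fixed a).1 e))]
      rfl)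
    have h2 := mul_mem h1 (inv_mem (mem_sup_right (S := blk (T : Subgroup G) (E i))
      ((show Cfsg.baumannSubgroupOf 2 (T : Subgroup G) ≤ (T : Subgroup G) from inf_le_left) hyB)))
    simpa using h2

/-- `G` is generated by the odd parts and `T`. -/
theorem blk_sup_top (h : SymCase T E n) (co : Core T E) (si : SymImages T E n)
    (hQ : cee 2 G = Cfsg.pCore 2 G) :
    (⨆ i, blk (T : Subgroup G) (E i)) ⊔ (T : Subgroup G) = ⊤ := by
  rw [eq_top_iff, ← h.top]
  exact sup_le (iSup_le fun i => (comp_le_blk_sup h co si hQ i).trans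
    (sup_le_sup_right (le_iSup (fun i => blk (T : Subgroup G) (E i)) i) _)) le_sup_right

/-- The subgroup of two-valued elements of `B` is not inside `P`. -/
theorem two_valued_not_le (hc : Ctx T M) (h : SymCase T E n) (co : Core T E) (si : SymImages T E n)
    (hQ : cee 2 G = Cfsg.pCore 2 G)
    (hP : ⁅pee 2 (T : Subgroup G), Cfsg.pResidual 2 G⁆ ≤ wee 2 (T : Subgroup G)) :
    ¬ closure {x : G | IsTwoValued (Cfsg.baumannSubgroupOf 2 (T : Subgroup G)) x} ≤ pee 2 (T : Subgroup G) := by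
  classical
  intro hle
  set B := Cfsg.baumannSubgroupOf 2 (T : Subgroup G) with hB
  set X := closure {x : G | IsTwoValued B x} with hX
  have hXB : X ≤ B := (closure_le _).2 fun x hx => hx.1
  have hchar := two_valued_char B
  have hcentral : ∀ x ∈ B, (∀ b ∈ B, x * b = b * x) → x ∈ X := fun x hx hc' =>
    subset_closure ⟨hx, 1, fun b hb => Or.inl (commutatorElement_eq_one_iff_mul_comm.2 (hc' b hb))⟩
  have hVj : ∀ j, ⁅vee 2 G, E j⁆ ≤ X := by
    intro j
    obtain ⟨ρ, ψ, rep⟩ := h.rep j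
    obtain ⟨σ, f, lv⟩ := si.leaves j ρ ψ rep
    let A : AddSubgroup (Fin (2 ^ n + 1) → ZMod 2) :=
      { carrier := {v | ∃ u : ↥⁅vee 2 G, E j⁆, (u : G) ∈ X ∧ Multiplicative.toAdd (ψ u) = v}
        zero_mem' := ⟨1, one_mem _, by simp⟩
        add_mem' := by
          rintro _ _ ⟨a, ha, rfl⟩ ⟨b, hb, rfl⟩
          exact ⟨a * b, mul_mem ha hb, by simp⟩
        neg_mem' := by
          rintro _ ⟨a, ha, rfl⟩
          exact ⟨a⁻¹, inv_mem ha, by simp⟩ }
    have hpair : ∀ a, (Pi.single a 1 + Pi.single f 1 : Fin (2 ^ n + 1) → ZMod 2) ∈ A := by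
      intro a
      obtain ⟨u, hu⟩ := rep.onto (Pi.single a 1 + Pi.single f 1)
        (by simp only [Pi.add_apply, Finset.sum_add_distrib, Fintype.sum_pi_single'];
            exact CharTwo.add_self_eq_zero 1)
      obtain ⟨u₁, hu₁⟩ := rep.onto (Pi.single (σ a) 1 + Pi.single f 1)
        (by simp only [Pi.add_apply, Finset.sum_add_distrib, Fintype.sum_pi_single'];
            exact CharTwo.add_self_eq_zero 1)
      have huV : (u : G) ∈ vee 2 G := mod_le_vee u.2
      refine ⟨u, subset_closure ⟨vee_le_baumann co huV, (u : G) * u₁, fun b hb => ?_⟩, hu⟩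
      obtain ⟨e, he, hact⟩ := act_baumann h.toComps si hb j
      obtain ⟨u', hu', hu'i⟩ := mod_act rep e u
      have hcm : ⁅(u : G), b⁆ = (u : G) * u' := by
        rw [hu', ← hact u u.2, commutatorElement_def]
        rw [vee_inv huV]
        group
      have hleaf := (lv.image e).1 he
      have hfix : ρ e f = f := (hleaf f).elim id fun e' => e'.trans ((lv.fixed f).2 rfl)
      have hψ' : Multiplicative.toAdd (ψ u') = Pi.single (ρ e a) 1 + Pi.single f 1 := by
        funext c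
        rw [hu'i, hu]
        simp only [Pi.add_apply, Pi.single_apply]
        have h1 : ((ρ e)⁻¹ c = a) ↔ (c = ρ e a) := by rw [Equiv.Perm.inv_eq_iff_eq]
        have h2 : ((ρ e)⁻¹ c = f) ↔ (c = f) := by
          rw [Equiv.Perm.inv_eq_iff_eq, hfix]
        simp only [h1, h2]
      rcases hleaf a with h1 | h1
      · left
        rw [h1, ← hu] at hψ'
        rw [hcm, mod_injective rep (Nat.le_add_left 1 _) (Multiplicative.toAdd.injective hψ'), ← pow_two]
        exact (vee_elementary (G := G) (p := 2)).2 _ huV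
      · right
        rw [h1, ← hu₁] at hψ'
        rw [hcm, mod_injective rep (Nat.le_add_left 1 _) (Multiplicative.toAdd.injective hψ')]
    intro v hv
    have hA : Multiplicative.toAdd (ψ ⟨v, hv⟩) ∈ A := by
      rw [even_decomp f (rep.even ⟨v, hv⟩)]
      refine sum_mem fun a _ => ?_
      rcases (Fin.forall_fin_two.2 ⟨Or.inl rfl, Or.inr rfl⟩ :
          ∀ c : ZMod 2, c = 0 ∨ c = 1) (Multiplicative.toAdd (ψ ⟨v, hv⟩) a) with e | e <;> rw [e]
      · rw [zero_smul]; exact zero_mem _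
      · rw [one_smul]; exact hpair a
    obtain ⟨u, hu, huv⟩ := hA
    rw [mod_injective rep (Nat.le_add_left 1 _) (Multiplicative.toAdd.injective huv)] at hu
    exact hu
  have hVX : vee 2 G ≤ X := by
    refine h.dec.ge.trans (sup_le (fun v hv => ?_) (iSup_le hVj))
    exact hcentral v (vee_le_baumann co hv.1) fun b hb =>
      (mem_centralizer_iff.1 hv.2 b (co.B_le hb)).symm
  have hWX : wee 2 (T : Subgroup G) ≤ X := by
    rw [co.W_split]
    refine sup_le hVX fun k hk => ?_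
    exact hcentral k (pee_le_baumann co (co.W_le hk.1)) fun b hb =>
      (mem_centralizer_iff.1 hk.2 b (baumann_le_ell _ hb)).symm
  have hnorm : X.Normal := by
    refine normalizer_eq_top_iff.1 (top_le_iff.1 ?_)
    rw [← blk_sup_top h co si hQ]
    refine sup_le (iSup_le fun i => fun e he => H74.mem_normalizer_of_conj_mem fun x hx => ?_)
      ((H51.le_normalizer_baumann (p := 2) _).trans
        (H34.Push.normalizer_le_of_characteristic hXB hchar))
    have h1 : ⁅x, e⁆ ∈ X := hVX (((haveI := vee_normal (G := G) (p := 2); commutator_le_left (vee 2 G) _ : ⁅vee 2 G, blk (T : Subgroup G) (E i)⁆ ≤ vee 2 G))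
      (pee_comm_blk co hP i (commutator_mem_commutator (hle hx) he)))
    rw [show e * x * e⁻¹ = (x⁻¹ * ⁅x, e⁆)⁻¹ from by simp only [commutatorElement_def]; group]
    exact inv_mem (mul_mem (inv_mem hx) h1)
  refine hc.hchar X hXB (fun hbot => ?_) hchar hnorm
  obtain ⟨ρ, ψ, rep⟩ := h.rep ⟨0, h.pos⟩
  have h2 := three_le h.pos_n
  obtain ⟨u, hu⟩ := rep.onto (Pi.single ⟨0, by omega⟩ 1 + Pi.single ⟨1, by omega⟩ 1)
    (by simp only [Pi.add_apply, Finset.sum_add_distrib, Fintype.sum_pi_single'];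
        exact CharTwo.add_self_eq_zero 1)
  have hu1 : u = 1 := Subtype.ext (mem_bot.1 (hbot ▸ hVX (mod_le_vee u.2)))
  rw [hu1, map_one, toAdd_one] at hu
  have := congrFun hu ⟨0, by omega⟩
  simp at this

/-- Commutators of disjoint leaves lie in the module. -/
theorem leaves_comm (hc : Ctx T M) (h : SymCase T E n) (co : Core T E) (si : SymImages T E n)
    (hQ : cee 2 G = Cfsg.pCore 2 G)
    (hP : ⁅pee 2 (T : Subgroup G), Cfsg.pResidual 2 G⁆ ≤ wee 2 (T : Subgroup G))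
    {i : Fin r} {ρ : ↥(E i) →* Equiv.Perm (Fin (2 ^ n + 1))} {ψ} (rep : SymRep 2 (E i) ρ ψ)
    {σ : Equiv.Perm (Fin (2 ^ n + 1))} {f : Fin (2 ^ n + 1)} (lv : SymLeaves T (E i) ρ σ f)
    {a₀ : Fin (2 ^ n + 1)} (ha₀ : a₀ ≠ f) {y y' : ↥(E i)}
    (hy : (y : G) ∈ Cfsg.baumannSubgroupOf 2 (T : Subgroup G)) (hρy : ρ y = Equiv.swap a₀ (σ a₀))
    (hy' : (y' : G) ∈ Cfsg.baumannSubgroupOf 2 (T : Subgroup G))
    (hd : (y' : G) * (y : G)⁻¹ ∈ blk (T : Subgroup G) (E i)) :
    ⁅(y : G), (y' : G)⁆ ∈ ⁅vee 2 G, E i⁆ := by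
  classical
  set B := Cfsg.baumannSubgroupOf 2 (T : Subgroup G) with hB
  obtain ⟨x, hxX, hxP⟩ : ∃ x, IsTwoValued B x ∧ x ∉ pee 2 (T : Subgroup G) := by
    by_contra hcon
    push Not at hcon
    exact two_valued_not_le hc h co si hQ hP ((closure_le _).2 hcon)
  obtain ⟨hxB, w, hw⟩ := id hxX
  obtain ⟨j, hj⟩ : ∃ j, ¬ x ∈ centralizer ((⁅vee 2 G, E j⁆ : Subgroup G) : Set G) := by
    by_contra hcon
    push Not at hcon
    exact hxP (mem_pee_of_cent h co hQ hxB hcon)
  -- move it to the component `i`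
  obtain ⟨t, htT, htE⟩ := h.trans j i
  have hTB : (T : Subgroup G) ≤ normalizer (B : Set G) := H51.le_normalizer_baumann _
  have hx1 : IsTwoValued B (t * x * t⁻¹) := hxX.conj (hTB htT)
  have hmod : (⁅vee 2 G, E j⁆ : Subgroup G).map (MulAut.conj t).toMonoidHom = ⁅vee 2 G, E i⁆ := by
    haveI := vee_normal (G := G) (p := 2)
    exact (Subgroup.map_commutator _ _ _).trans
      (congrArg₂ (fun A B => ⁅A, B⁆) (Normal.map_conj_eq _ t) htE)
  have hi1 : ¬ t * x * t⁻¹ ∈ centralizer ((⁅vee 2 G, E i⁆ : Subgroup G) : Set G) := by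
    intro hcent
    refine hj (mem_centralizer_iff.2 fun u hu => ?_)
    have h1 := mem_centralizer_iff.1 hcent _ (hmod ▸ mem_map_of_mem (MulAut.conj t).toMonoidHom hu)
    simp only [MulEquiv.coe_toMonoidHom, MulAut.conj_apply] at h1
    apply mul_left_cancel (a := t); apply mul_right_cancel (b := t⁻¹)
    simpa [mul_assoc] using h1
  obtain ⟨hx1B, w1, hw1⟩ := id hx1
  obtain ⟨-, e1, c, hcf, he1, he1B, hact1⟩ := moved_one h co si hx1B hw1 rep lv hi1
  obtain ⟨t', ht'T, ht'c⟩ := lv.trans c a₀ hcf ha₀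
  set x2 := (t' : G) * (t * x * t⁻¹) * (t' : G)⁻¹ with hx2def
  obtain ⟨hx2B, w2, hw2⟩ := hx1.conj (hTB ht'T)
  let e2 : ↥(E i) := t' * e1 * t'⁻¹
  have hN : E i ≤ normalizer ((⁅vee 2 G, E i⁆ : Subgroup G) : Set G) := normalizer_commutator_ge_right _ _
  have hact2 : ∀ u ∈ ⁅vee 2 G, E i⁆, x2 * u * x2⁻¹ = (e2 : G) * u * (e2 : G)⁻¹ := by
    intro u hu
    have h1 := hact1 _ ((mem_normalizer_iff''.1 (hN t'.2) u).1 hu)
    calc x2 * u * x2⁻¹ = (t' : G) * ((t * x * t⁻¹) * ((t' : G)⁻¹ * u * t') * (t * x * t⁻¹)⁻¹) *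
          (t' : G)⁻¹ := by rw [hx2def]; group
      _ = (t' : G) * ((e1 : G) * ((t' : G)⁻¹ * u * t') * (e1 : G)⁻¹) * (t' : G)⁻¹ := by rw [h1]
      _ = (e2 : G) * u * (e2 : G)⁻¹ := by simp only [e2, Subgroup.coe_mul, InvMemClass.coe_inv]; group
  have he2B : (e2 : G) ∈ B ⊔ cee 2 G := by
    have hn : (T : Subgroup G) ≤ normalizer ((B ⊔ cee 2 G : Subgroup G) : Set G) := by
      haveI := cee_normal (G := G) (p := 2)
      intro g hg
      rw [mem_normalizer_iff_map_conj_eq]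
      exact (Subgroup.map_sup _ _ _).trans (congrArg₂ (· ⊔ ·)
        (mem_normalizer_iff_map_conj_eq.1 (hTB hg)) (Normal.map_conj_eq _ g))
    simpa [e2] using (mem_normalizer_iff.1 (hn ht'T) _).1 he1B
  have he2 : ρ e2 = ρ y := by
    have h1 : ρ e2 = Equiv.swap a₀ (ρ t' (σ c)) := by
      simp only [e2, map_mul, map_inv, he1]
      rw [← Equiv.swap_apply_apply, ht'c]
    have hne : ρ t' (σ c) ≠ a₀ := fun e' =>
      hcf ((lv.fixed c).1 ((ρ t').injective (e'.trans ht'c.symm)))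
    rw [h1, hρy]
    rcases (lv.image e2).1 he2B a₀ with h2 | h2 <;> rw [h1, Equiv.swap_apply_left] at h2
    · exact absurd h2 hne
    · rw [h2]
  have hey : (y : G)⁻¹ * (e2 : G) ∈ cee 2 G := by
    have := (rep.ker (y⁻¹ * e2)).1 (by rw [map_mul, map_inv, he2, inv_mul_cancel])
    simpa using this
  have hagree : ∀ u ∈ ⁅vee 2 G, E i⁆, x2 * u * x2⁻¹ = (y : G) * u * (y : G)⁻¹ := by
    intro u hu
    rw [hact2 u hu]
    have h1 : ((y : G)⁻¹ * (e2 : G)) * u = u * ((y : G)⁻¹ * (e2 : G)) :=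
      (mem_centralizer_iff.1 hey u (mod_le_vee hu)).symm
    calc (e2 : G) * u * (e2 : G)⁻¹ = (y : G) * (((y : G)⁻¹ * (e2 : G)) * u) * (e2 : G)⁻¹ := by group
      _ = _ := by rw [h1]; group
  have hi2 : ¬ x2 ∈ centralizer ((⁅vee 2 G, E i⁆ : Subgroup G) : Set G) := by
    intro hcent
    refine hi1 (mem_centralizer_iff.2 fun u hu => ?_)
    have h1 := mem_centralizer_iff.1 hcent _ ((mem_normalizer_iff.1 (hN t'.2) u).1 hu)
    rw [hx2def] at h1
    apply mul_left_cancel (a := (t' : G)); apply mul_right_cancel (b := (t' : G)⁻¹)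
    simpa [mul_assoc] using h1
  obtain ⟨hw2i, -⟩ := moved_one h co si hx2B hw2 rep lv hi2
  have hx0 : x2 * (y : G)⁻¹ ∈ pee 2 (T : Subgroup G) := by
    have h1 : (y : G)⁻¹ * x2 ∈ pee 2 (T : Subgroup G) := by
      refine mem_pee_of_cent h co hQ (mul_mem (inv_mem hy) hx2B) fun k => ?_
      by_cases hk : i = k
      · subst hk
        refine mem_centralizer_iff.2 fun u hu => ?_
        have h1 := hagree u hu
        calc u * ((y : G)⁻¹ * x2) = (y : G)⁻¹ * ((y : G) * u * (y : G)⁻¹) * x2 := by group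
          _ = (y : G)⁻¹ * (x2 * u * x2⁻¹) * x2 := by rw [h1]
          _ = (y : G)⁻¹ * x2 * u := by group
      · exact mul_mem (inv_mem (cross_cent h.toComps (Ne.symm hk) y.2))
          (moved_unique h co si hx2B hw2 hk hi2)
    have h2 := (pee_normal (T : Subgroup G)).conj_mem _ h1 (y : G)
    simpa [mul_assoc] using h2
  set x0 := x2 * (y : G)⁻¹ with hx0def
  have hmem : ∀ b ∈ B, ⁅x2, b⁆ ∈ ⁅vee 2 G, E i⁆ := fun b hb => by
    rcases hw2 b hb with e | e <;> rw [e]
    · exact one_mem _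
    · exact hw2i
  have hA : ⁅x0, (y : G)⁆ ∈ ⁅vee 2 G, E i⁆ := by
    have := hmem y hy
    rwa [show ⁅x2, (y : G)⁆ = ⁅x0, (y : G)⁆ from by
      rw [hx0def]; simp only [commutatorElement_def]; group] at this
  have hC : ⁅x0, (y' : G)⁆ ∈ ⁅vee 2 G, E i⁆ := by
    set d := (y' : G) * (y : G)⁻¹ with hddef
    have hdE : d ∈ E i := ((blk_le _ _) hd).2
    have h1 : ⁅x0, d⁆ ∈ ⁅vee 2 G, E i⁆ :=
      commutator_mono le_rfl ((blk_le _ _).trans inf_le_right)
        (pee_comm_blk co hP i (commutator_mem_commutator hx0 hd))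
    have h2 := mul_mem h1 ((mem_normalizer_iff.1 (hN hdE) _).1 hA)
    rwa [show ⁅x0, d⁆ * (d * ⁅x0, (y : G)⁆ * d⁻¹) = ⁅x0, (y' : G)⁆ from by
      rw [hddef]; simp only [commutatorElement_def]; group] at h2
  have hD : x0 * ⁅(y : G), (y' : G)⁆ * x0⁻¹ ∈ ⁅vee 2 G, E i⁆ := by
    have h1 := mul_mem (hmem y' hy') (inv_mem hC)
    rwa [show ⁅x2, (y' : G)⁆ * ⁅x0, (y' : G)⁆⁻¹ = x0 * ⁅(y : G), (y' : G)⁆ * x0⁻¹ from by
      rw [hx0def]; simp only [commutatorElement_def]; group] at h1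
  exact (mem_normalizer_iff.1 (sup_le_normalizer_mod h.toComps i
    (co.B_le (pee_le_baumann co hx0))) _).2 hD

end Cfsg.Agent.H88.Push
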