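import Cfsg.Agent.H88.Push.SymComp

/-!
Symmetric components: the odd part of `L` in a component, and the commutators of disjoint leaves.
-/

set_option autoImplicit false
set_option linter.style.haveILetI false
set_option linter.unusedSectionVars false

open scoped commutatorElement Pointwise

namespace Cfsg.Agent.H88.Push

open Subgroup Cfsg.Agent.H34.Push

universe u

variable {G : Type u} [Group G] [Finite G] [Fact (Nat.Prime 2)]

/-- The odd part of `L` in a component. -/
def blk (T E : Subgroup G) : Subgroup G := Cfsg.pResidualOf 2 (ell 2 T ⊓ E)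

theorem blk_eq (T E : Subgroup G) :
    blk T E = closure {x : G | x ∈ ell 2 T ⊓ E ∧ (orderOf x).Coprime 2} :=
  H72.pResidual_map_eq _

theorem blk_le (T E : Subgroup G) : blk T E ≤ ell 2 T ⊓ E := by
  rw [blk_eq]; exact (closure_le _).2 fun x hx => hx.1

theorem ell_normal (T : Subgroup G) : (ell 2 T).Normal := by
  unfold ell; infer_instance

theorem wee_normal (T : Subgroup G) : (wee 2 T).Normal := by
  haveI := vee_normal (G := G) (p := 2)
  unfold wee; infer_instance

theorem pee_normal (T : Subgroup G) : (pee 2 T).Normal := by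
  haveI := wee_normal T
  haveI := pCore_normal' (G := G) (p := 2)
  haveI : (centralizer (wee 2 T : Set G)).Normal := normal_centralizer
  unfold pee; infer_instance

theorem baumann_le_ell (T : Subgroup G) : Cfsg.baumannSubgroupOf 2 T ≤ ell 2 T :=
  le_normalClosure

theorem vee_le_wee (T : Subgroup G) : vee 2 G ≤ wee 2 T := le_sup_left

/-- Membership in the image of `B`. -/
theorem mem_baumann {T : Sylow 2 G} (hQ : cee 2 G = Cfsg.pCore 2 G)
    (hP : Cfsg.pCore 2 G ⊓ Cfsg.baumannSubgroupOf 2 (T : Subgroup G) = pee 2 (T : Subgroup G))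
    (hL : ell 2 (T : Subgroup G) ⊓ Cfsg.pCore 2 G = pee 2 (T : Subgroup G)) {x : G}
    (hx : x ∈ ell 2 (T : Subgroup G))
    (hxB : x ∈ Cfsg.baumannSubgroupOf 2 (T : Subgroup G) ⊔ cee 2 G) :
    x ∈ Cfsg.baumannSubgroupOf 2 (T : Subgroup G) := by
  haveI := cee_normal (G := G) (p := 2)
  obtain ⟨b, hb, c, hc, rfl⟩ := mem_sup_of_normal_right.1 hxB
  refine mul_mem hb ?_
  have hc' : c ∈ pee 2 (T : Subgroup G) := by
    rw [← hL]
    exact ⟨by simpa using mul_mem (inv_mem (baumann_le_ell _ hb)) hx, hQ ▸ hc⟩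
  rw [← hP] at hc'
  exact hc'.2

section Data

variable {r : ℕ} {E : Fin r → Subgroup G} {T : Sylow 2 G}

theorem sup_le_normalizer (h : Comps T E) (i : Fin r) :
    (⨆ j, E j) ≤ normalizer (E i : Set G) := by
  refine iSup_le fun j => ?_
  by_cases hij : i = j
  · exact hij ▸ le_normalizer
  intro g hg
  refine H74.mem_normalizer_of_conj_mem fun e he => ?_
  have h1 : ⁅g, e⁆ ∈ E i := h.cent_le i (h.comm j i (Ne.symm hij) (commutator_mem_commutator hg he))
  have := mul_mem h1 he
  rwa [commutatorElement_def, inv_mul_cancel_right] at this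

theorem sup_le_normalizer_mod (h : Comps T E) (i : Fin r) :
    (⨆ j, E j) ≤ normalizer ((⁅vee 2 G, E i⁆ : Subgroup G) : Set G) :=
  haveI := vee_normal (G := G) (p := 2)
  le_normalizer_comm le_normalizer_of_normal (sup_le_normalizer h i)

theorem cross_cent (h : Comps T E) {i j : Fin r} (hij : i ≠ j) :
    E j ≤ centralizer ((⁅vee 2 G, E i⁆ : Subgroup G) : Set G) :=
  le_centralizer_iff.1 (commutator_eq_bot_iff_le_centralizer.1 (h.cross i j hij))

theorem vee_split (h : Comps T E) (i : Fin r) :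
    vee 2 G ≤ (vee 2 G ⊓ centralizer (E i : Set G)) ⊔ ⁅vee 2 G, E i⁆ := by
  refine h.dec.ge.trans (sup_le ?_ (iSup_le fun j => ?_))
  · exact le_sup_of_le_left (inf_le_inf_left _ (centralizer_le (le_iSup E i)))
  · by_cases hij : j = i
    · exact hij ▸ le_sup_right
    · exact le_sup_of_le_left (le_inf mod_le_vee (le_centralizer_iff.1 (cross_cent h hij)))

theorem L_le_normalizer (h : Comps T E) (hLE : ell 2 (T : Subgroup G) ≤ ⨆ j, E j) (i : Fin r) :
    ell 2 (T : Subgroup G) ≤ normalizer ((ell 2 (T : Subgroup G) ⊓ E i : Subgroup G) : Set G) :=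
  (le_inf le_normalizer (hLE.trans (sup_le_normalizer h i))).trans inf_normalizer_le_normalizer_inf

theorem normalizer_le_normalizer_residual (K : Subgroup G) :
    normalizer (K : Set G) ≤ normalizer ((Cfsg.pResidualOf 2 K : Subgroup G) : Set G) := by
  intro g hg
  rw [mem_normalizer_iff_map_conj_eq] at hg ⊢
  exact (H51.map_pResidualOf (MulAut.conj g) K).trans (congrArg _ hg)

theorem blk_normalizer (h : Comps T E) (hLE : ell 2 (T : Subgroup G) ≤ ⨆ j, E j) (i : Fin r) :
    ell 2 (T : Subgroup G) ≤ normalizer ((blk (T : Subgroup G) (E i) : Subgroup G) : Set G) :=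
  (L_le_normalizer h hLE i).trans (normalizer_le_normalizer_residual _)

theorem comp_dedekind (h : Comps T E) (co : Core T E) (hQ : cee 2 G = Cfsg.pCore 2 G) (i : Fin r) :
    E i = (ell 2 (T : Subgroup G) ⊓ E i) ⊔ Cfsg.pCore 2 G := by
  haveI := cee_normal (G := G) (p := 2)
  refine le_antisymm (fun e he => ?_) (sup_le inf_le_right (hQ ▸ h.cent_le i))
  have h1 : e ∈ ell 2 (T : Subgroup G) ⊔ cee 2 G := co.L_sup.ge (mem_iSup_of_mem i he)
  obtain ⟨l, hl, c, hc, rfl⟩ := mem_sup_of_normal_right.1 h1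
  refine mul_mem (mem_sup_left ⟨hl, ?_⟩) (mem_sup_right (hQ ▸ hc))
  simpa using mul_mem he (inv_mem (h.cent_le i hc))

theorem surj_L (h : Comps T E) (co : Core T E) (hQ : cee 2 G = Cfsg.pCore 2 G) {i : Fin r} {m : ℕ}
    {ρ : ↥(E i) →* Equiv.Perm (Fin m)} {ψ} (rep : SymRep 2 (E i) ρ ψ) (σ : Equiv.Perm (Fin m)) :
    ∃ e : ↥(E i), (e : G) ∈ ell 2 (T : Subgroup G) ⊓ E i ∧ ρ e = σ := by
  haveI := pCore_normal' (G := G) (p := 2)
  obtain ⟨e, rfl⟩ := rep.surj σ
  obtain ⟨l, hl, c, hc, hlc⟩ := mem_sup_of_normal_right.1 ((comp_dedekind h co hQ i).le e.2)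
  refine ⟨⟨l, hl.2⟩, hl, ?_⟩
  have hc' : c ∈ cee 2 G := by rw [hQ]; exact hc
  have : ρ ⟨c, h.cent_le i hc'⟩ = 1 := (rep.ker _).2 hc'
  rw [show e = ⟨l, hl.2⟩ * ⟨c, h.cent_le i hc'⟩ from Subtype.ext hlc.symm, map_mul, this, mul_one]

theorem blk_image (h : Comps T E) (co : Core T E) (hQ : cee 2 G = Cfsg.pCore 2 G) {i : Fin r} {m : ℕ}
    {ρ : ↥(E i) →* Equiv.Perm (Fin m)} {ψ} (rep : SymRep 2 (E i) ρ ψ) :
    ((blk (T : Subgroup G) (E i)).subgroupOf (E i)).map ρ = alternatingGroup (Fin m) :=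
  residual_image inf_le_right (surj_L h co hQ rep)

/-- `[P, blk] ≤ [V, blk]`. -/
theorem pee_comm_blk (co : Core T E) (hP : ⁅pee 2 (T : Subgroup G), Cfsg.pResidual 2 G⁆ ≤ wee 2 (T : Subgroup G))
    (i : Fin r) :
    ⁅pee 2 (T : Subgroup G), blk (T : Subgroup G) (E i)⁆ ≤ ⁅vee 2 G, blk (T : Subgroup G) (E i)⁆ := by
  haveI := pee_normal (T : Subgroup G)
  haveI := vee_normal (G := G) (p := 2)
  set P := pee 2 (T : Subgroup G) with hPdef
  set D := blk (T : Subgroup G) (E i) with hD
  have hPp : IsPGroup 2 P := (H72.pCore_isPGroup 2).to_le inf_le_left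
  have h1 : ⁅P, D⁆ ≤ ⁅⁅P, D⁆, D⁆ := by
    set R := ⁅⁅P, D⁆, D⁆ with hR
    have hDR : D ≤ normalizer (R : Set G) := normalizer_commutator_ge_right _ _
    let K : Subgroup G :=
      { carrier := {g | g ∈ normalizer (R : Set G) ∧ ∀ x ∈ P, ⁅x, g⁆ ∈ R}
        one_mem' := ⟨one_mem _, fun v _ => by simp⟩
        mul_mem' := by
          rintro a b ⟨ha, ha'⟩ ⟨hb, hb'⟩
          refine ⟨mul_mem ha hb, fun v hv => ?_⟩
          rw [show ⁅v, a * b⁆ = ⁅v, a⁆ * (a * ⁅v, b⁆ * a⁻¹) from by
            simp only [commutatorElement_def]; group]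
          exact mul_mem (ha' v hv) ((mem_normalizer_iff.1 ha _).1 (hb' v hv))
        inv_mem' := by
          rintro a ⟨ha, ha'⟩
          refine ⟨inv_mem ha, fun v hv => ?_⟩
          rw [show ⁅v, a⁻¹⁆ = a⁻¹ * ⁅v, a⁆⁻¹ * a from by simp only [commutatorElement_def]; group]
          exact (mem_normalizer_iff''.1 ha _).1 (inv_mem (ha' v hv)) }
    have hDK : D ≤ K := by
      refine (blk_eq _ _).le.trans ((closure_le _).2 ?_)
      rintro e ⟨he, hc⟩
      have heD : e ∈ D := by rw [hD, blk_eq]; exact subset_closure ⟨he, hc⟩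
      refine ⟨hDR heD, fun x hx => ?_⟩
      have hC : zpowers e ≤ D := zpowers_le.2 heD
      have hcop : (Nat.card (zpowers e)).Coprime (Nat.card P) := by
        obtain ⟨k, hk⟩ := hPp.exists_card_eq
        rw [hk, Nat.card_zpowers]
        exact hc.pow_right k
      have hsolv : Group.IsSolvable (zpowers e) ∨ Group.IsSolvable P := by
        haveI := hPp.isNilpotent; exact Or.inr inferInstance
      have h2 : ⁅x, e⁆ ∈ ⁅P, zpowers e⁆ := commutator_mem_commutator hx (mem_zpowers e)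
      rw [← H20.commutator_commutator_eq le_normalizer_of_normal hcop hsolv] at h2
      exact commutator_mono (commutator_mono le_rfl hC) hC h2
    exact commutator_le.2 fun x hx e he => (hDK he).2 x hx
  have hDres : D ≤ Cfsg.pResidual 2 G := by
    rw [hD, blk_eq, closure_le]
    rintro x ⟨-, hc⟩
    exact subset_closure hc
  refine h1.trans ((commutator_mono ((commutator_mono le_rfl hDres).trans hP) le_rfl).trans ?_)
  rw [commutator_le]
  intro w hw e he
  rw [co.W_split] at hw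
  obtain ⟨v, hv, k, hk, rfl⟩ := mem_sup_of_normal_left.1 hw
  have hke : k * e = e * k :=
    (mem_centralizer_iff.1 hk.2 e ((blk_le _ _).trans inf_le_left he)).symm
  rw [show ⁅v * k, e⁆ = ⁅v, e⁆ from by
    rw [commutatorElement_def, commutatorElement_def]
    calc v * k * e * (v * k)⁻¹ * e⁻¹ = v * (k * e) * k⁻¹ * v⁻¹ * e⁻¹ := by group
      _ = v * e * v⁻¹ * e⁻¹ := by rw [hke]; group]
  exact commutator_mem_commutator hv he

/-- Conjugation by `B` on one module is that of an element of its component. -/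
theorem act_baumann (h : Comps T E) {n : ℕ} (si : SymImages T E n) {b : G}
    (hb : b ∈ Cfsg.baumannSubgroupOf 2 (T : Subgroup G)) (j : Fin r) :
    ∃ e : ↥(E j), (e : G) ∈ Cfsg.baumannSubgroupOf 2 (T : Subgroup G) ⊔ cee 2 G ∧
      ∀ u ∈ ⁅vee 2 G, E j⁆, b * u * b⁻¹ = (e : G) * u * (e : G)⁻¹ := by
  set M := ⁅vee 2 G, E j⁆ with hM
  have hn : E j ≤ normalizer (centralizer (M : Set G) : Set G) := by
    intro g hg
    rw [mem_normalizer_iff_map_conj_eq]
    exact (H34.map_centralizer (MulAut.conj g) M).trans (by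
      rw [show M.map (MulAut.conj g).toMonoidHom = M from
        mem_normalizer_iff_map_conj_eq.1 (normalizer_commutator_ge_right _ _ hg)])
  let X := (Cfsg.baumannSubgroupOf 2 (T : Subgroup G) ⊔ cee 2 G) ⊓ E j
  have h1 : Cfsg.baumannSubgroupOf 2 (T : Subgroup G) ≤ X ⊔ centralizer (M : Set G) := by
    refine le_sup_left.trans (si.split.ge.trans (iSup_le fun k => ?_))
    by_cases hk : j = k
    · exact hk ▸ le_sup_left
    · exact le_sup_of_le_right (inf_le_right.trans (cross_cent h hk))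
  have hb' : b ∈ ((X : Set G) * (centralizer (M : Set G) : Set G)) := by
    rw [← coe_mul_of_left_le_normalizer_right _ _ (inf_le_right.trans hn)]
    exact h1 hb
  obtain ⟨e, he, c, hc, rfl⟩ := hb'
  refine ⟨⟨e, he.2⟩, he.1, fun u hu => ?_⟩
  have hcu : c * u = u * c := (mem_centralizer_iff.1 hc u hu).symm
  calc e * c * u * (e * c)⁻¹ = e * (c * u) * c⁻¹ * e⁻¹ := by group
    _ = e * u * e⁻¹ := by rw [hcu]; group

/-- The subset of `B` with at most one nontrivial commutator value. -/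
def IsTwoValued (B : Subgroup G) (x : G) : Prop := x ∈ B ∧ ∃ w, ∀ b ∈ B, ⁅x, b⁆ = 1 ∨ ⁅x, b⁆ = w

theorem IsTwoValued.conj {B : Subgroup G} {x g : G} (hx : IsTwoValued B x)
    (hg : g ∈ normalizer (B : Set G)) : IsTwoValued B (g * x * g⁻¹) := by
  obtain ⟨hxB, w, hw⟩ := hx
  refine ⟨(mem_normalizer_iff.1 hg x).1 hxB, g * w * g⁻¹, fun b hb => ?_⟩
  have e : ⁅g * x * g⁻¹, b⁆ = g * ⁅x, g⁻¹ * b * g⁆ * g⁻¹ := by
    simp only [commutatorElement_def]; group
  rcases hw _ ((mem_normalizer_iff''.1 hg b).1 hb) with h1 | h1 <;> rw [e, h1]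
  · exact Or.inl (by group)
  · exact Or.inr rfl

theorem two_valued_char (B : Subgroup G) :
    ((closure {x : G | IsTwoValued B x}).subgroupOf B).Characteristic := by
  have hle : closure {x : G | IsTwoValued B x} ≤ B := (closure_le _).2 fun x hx => hx.1
  have heq : (closure {x : G | IsTwoValued B x}).subgroupOf B =
      closure {x : ↥B | ∃ w, ∀ b : ↥B, ⁅x, b⁆ = 1 ∨ ⁅x, b⁆ = w} := by
    apply Subgroup.map_injective B.subtype_injective
    rw [map_subgroupOf_eq_of_le hle, MonoidHom.map_closure]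
    congr 1
    ext x
    constructor
    · rintro ⟨hx, w, hw⟩
      refine ⟨⟨x, hx⟩, ?_, rfl⟩
      by_cases hwB : w ∈ B
      · refine ⟨⟨w, hwB⟩, fun b => ?_⟩
        rcases hw b b.2 with e | e
        · exact Or.inl (Subtype.ext e)
        · exact Or.inr (Subtype.ext e)
      · refine ⟨1, fun b => Or.inl (Subtype.ext ?_)⟩
        rcases hw b b.2 with e | e
        · exact e
        · exact absurd (e ▸ (⁅(⟨x, hx⟩ : ↥B), b⁆).2 : w ∈ B) hwB
    · rintro ⟨x, ⟨w, hw⟩, rfl⟩
      refine ⟨x.2, w, fun b hb => ?_⟩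
      rcases hw ⟨b, hb⟩ with e | e
      · exact Or.inl (congrArg Subtype.val e)
      · exact Or.inr (congrArg Subtype.val e)
  rw [heq, characteristic_iff_map_le]
  intro φ
  rw [MonoidHom.map_closure]
  refine closure_mono ?_
  rintro _ ⟨x, ⟨w, hw⟩, rfl⟩
  refine ⟨φ w, fun b => ?_⟩
  rcases hw (φ.symm b) with e | e
  · exact Or.inl (by simpa using congrArg φ e)
  · exact Or.inr (by simpa using congrArg φ e)

end Data

/-- An even vector is a sum of pairs through one coordinate. -/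
theorem even_decomp {m : ℕ} (f : Fin m) {v : Fin m → ZMod 2} (hv : ∑ i, v i = 0) :
    v = ∑ a, v a • (Pi.single a 1 + Pi.single f 1 : Fin m → ZMod 2) := by
  funext b
  simp only [smul_add, Finset.sum_add_distrib, Pi.add_apply, Finset.sum_apply, Pi.smul_apply, smul_eq_mul]
  rw [← Finset.sum_mul, hv, zero_mul, add_zero]
  simp [Pi.single_apply]

end Cfsg.Agent.H88.Push
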